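import Groth.Agent.Lib.AlgSp.IdealEtLib
import Groth.Agent.Lib.LocClosedRep.Basic
import Mathlib.AlgebraicGeometry.IdealSheaf.Functorial

/-!
# Gluing ideal sheaves along open immersions
-/

set_option autoImplicit false
set_option linter.style.haveILetI false
set_option backward.isDefEq.respectTransparency false
universe u

noncomputable section

open CategoryTheory CategoryTheory.Limits AlgebraicGeometry

namespace GrothLib.Hilb26

open GrothLib.AlgSp (topIdeal topIdeal_comap topIdeal_ker)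

theorem topIdeal_bot {A : Scheme.{u}} (h : IsAffine A) : topIdeal (⊥ : A.IdealSheafData) h = ⊥ := rfl

theorem eq_bot_iff_topIdeal {A : Scheme.{u}} (h : IsAffine A) (J : A.IdealSheafData) :
    J = ⊥ ↔ topIdeal J h = ⊥ := by
  haveI := h
  refine ⟨fun e => by rw [e]; exact topIdeal_bot h, fun e => Scheme.IdealSheafData.ext_of_isAffine ?_⟩
  exact e.trans (topIdeal_bot h).symm

theorem comap_eq_bot_iff {W Y : Scheme.{u}} (t : W ⟶ Y) (I : Y.IdealSheafData) : I.comap t = ⊥ ↔ I ≤ t.ker := by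
  rw [← le_bot_iff, ← Scheme.IdealSheafData.le_map_iff_comap_le, Scheme.IdealSheafData.map_bot]

theorem eq_bot_of_local {T : Scheme.{u}} (J : T.IdealSheafData)
    (h : ∀ x : T, ∃ W : T.Opens, x ∈ W ∧ J.comap W.ι = ⊥) : J = ⊥ := by
  refine le_bot_iff.1 ?_
  choose W hxW hW using h
  let κ := {p : T.affineOpens // ∃ x, p.1 ≤ W x}
  refine Scheme.IdealSheafData.le_of_iSup_eq_top (fun p : κ => p.1) (top_le_iff.1 fun y _ => ?_) fun p => ?_
  · obtain ⟨_, ⟨U, hU, rfl⟩, hyU, hle⟩ := T.isBasis_affineOpens.exists_subset_of_mem_open (hxW y) (W y).isOpen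
    exact TopologicalSpace.Opens.mem_iSup.2 ⟨⟨⟨U, hU⟩, y, hle⟩, hyU⟩
  · obtain ⟨⟨U, hU⟩, x, hUW⟩ := p
    have h0 : J.comap U.ι = ⊥ := by
      rw [← T.homOfLE_ι hUW, Scheme.IdealSheafData.comap_comp, hW, Scheme.IdealSheafData.comap_bot]
    rw [eq_bot_iff_topIdeal hU] at h0
    have hT : (⊤ : U.toScheme.Opens) ≤ U.ι ⁻¹ᵁ U := by simp
    unfold topIdeal at h0
    rw [GrothLib.BlowUp.ideal_comap_eq_map _ _ ⟨U, hU⟩ _ hT, Ideal.map_eq_bot_iff_le_ker] at h0
    refine h0.trans fun s hs => ?_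
    rw [RingHom.mem_ker] at hs
    rw [(ConcreteCategory.bijective_of_isIso (U.ι.appLE U ⊤ hT)).1 (hs.trans (map_zero _).symm)]
    exact Ideal.zero_mem _

/-- Compatible ideal sheaves on a cover by open immersions glue. -/
theorem exists_glue {Y : Scheme.{u}} {κ : Type u} {W : κ → Scheme.{u}} (j : ∀ i, W i ⟶ Y)
    [∀ i, IsOpenImmersion (j i)] (hcov : ∀ y : Y, ∃ i, y ∈ Set.range (j i)) (I : ∀ i, (W i).IdealSheafData)
    (hI : ∀ i k (T : Scheme.{u}) (a : T ⟶ W i) (b : T ⟶ W k), a ≫ j i = b ≫ j k → (I i).comap a = (I k).comap b) :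
    ∃ J : Y.IdealSheafData, ∀ i, J.comap (j i) = I i := by
  let P : ∀ T : Scheme.{u}, (T ⟶ Y) → Prop := fun T t =>
    ∀ i (T' : Scheme.{u}) (a : T' ⟶ T) (b : T' ⟶ W i), a ≫ t = b ≫ j i → (I i).comap b = ⊥
  have hone : ∀ (i) {T : Scheme.{u}} (t : T ⟶ Y) (l : T ⟶ W i), l ≫ j i = t → (P T t ↔ (I i).comap l = ⊥) := by
    intro i T t l hl
    refine ⟨fun h => h i T (𝟙 T) l (by rw [Category.id_comp, hl]), fun h k T' a b hab => ?_⟩
    rw [← hI i k T' (a ≫ l) b (by rw [Category.assoc, hl, hab]), Scheme.IdealSheafData.comap_comp, h,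
      Scheme.IdealSheafData.comap_bot]
  obtain ⟨J, hJ⟩ := LocClosedRep.exists_ideal_iff P
    (fun m t ht i T' a b hab => ht i T' (a ≫ m) b (by rw [Category.assoc, hab]))
    (fun {T} t ht i T' a b hab => by
      refine eq_bot_of_local _ fun x => ?_
      obtain ⟨V, hxV, hV⟩ := ht (a x)
      refine ⟨a ⁻¹ᵁ V, hxV, ?_⟩
      rw [← Scheme.IdealSheafData.comap_comp]
      exact hV i _ (a ∣_ V) ((a ⁻¹ᵁ V).ι ≫ b) (by rw [morphismRestrict_ι_assoc, hab, Category.assoc]))
    (G := fun V => ∃ i, (V : Set Y) ⊆ Set.range (j i))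
    (fun ⟨i, hi⟩ hle => ⟨i, fun y hy => hi (hle hy)⟩)
    (fun V hV ⟨i, hi⟩ => by
      let l : Spec Γ(Y, V) ⟶ W i := IsOpenImmersion.lift (j i) hV.fromSpec (by rw [hV.range_fromSpec]; exact hi)
      have hl : l ≫ j i = hV.fromSpec := IsOpenImmersion.lift_fac _ _ _
      refine ⟨(topIdeal ((I i).comap l) inferInstance).map (Scheme.ΓSpecIso Γ(Y, V)).hom.hom, fun C χ => ?_⟩
      rw [hone i _ (Spec.map χ ≫ l) (by rw [Category.assoc, hl]), Scheme.IdealSheafData.comap_comp,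
        eq_bot_iff_topIdeal inferInstance, topIdeal_comap inferInstance inferInstance]
      rw [Ideal.map_eq_bot_iff_le_ker, Ideal.map_le_iff_le_comap]
      refine forall₂_congr fun s hs => ?_
      rw [RingHom.mem_ker, Ideal.mem_comap, RingHom.mem_ker, ← CommRingCat.comp_apply,
        ← Scheme.ΓSpecIso_naturality, CommRingCat.comp_apply]
      exact (map_eq_zero_iff _ (ConcreteCategory.bijective_of_isIso (Scheme.ΓSpecIso C).hom).1).symm)
    (fun y => by
      obtain ⟨i, hi⟩ := hcov y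
      exact ⟨(j i).opensRange, hi, i, subset_rfl⟩)
  refine ⟨J, fun i => eq_of_forall_ge_iff fun K => ?_⟩
  rw [← Scheme.IdealSheafData.le_map_iff_comap_le]
  refine (hJ (K.subschemeι ≫ j i)).symm.trans ((hone i _ K.subschemeι rfl).trans ?_)
  rw [comap_eq_bot_iff, Scheme.IdealSheafData.ker_subschemeι]

/-- Ideal sheaves agreeing on a cover by open immersions agree. -/
theorem eq_of_cover {Y : Scheme.{u}} {κ : Type u} {W : κ → Scheme.{u}} (j : ∀ i, W i ⟶ Y)
    [∀ i, IsOpenImmersion (j i)] (hcov : ∀ y : Y, ∃ i, y ∈ Set.range (j i)) {I J : Y.IdealSheafData}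
    (h : ∀ i, I.comap (j i) = J.comap (j i)) : I = J := by
  have key : ∀ {I J : Y.IdealSheafData}, (∀ i, I.comap (j i) = J.comap (j i)) → I ≤ J := fun {I J} h => by
    rw [← J.ker_subschemeι, ← comap_eq_bot_iff]
    refine eq_bot_of_local _ fun x => ?_
    obtain ⟨i, hi⟩ := hcov (J.subschemeι x)
    refine ⟨J.subschemeι ⁻¹ᵁ (j i).opensRange, hi, ?_⟩
    have hr : Set.range ((J.subschemeι ⁻¹ᵁ (j i).opensRange).ι ≫ J.subschemeι) ⊆ Set.range (j i) := by
      rintro _ ⟨y, rfl⟩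
      exact y.2
    rw [← Scheme.IdealSheafData.comap_comp, ← IsOpenImmersion.lift_fac (j i) _ hr, Scheme.IdealSheafData.comap_comp, h,
      ← Scheme.IdealSheafData.comap_comp, IsOpenImmersion.lift_fac, Scheme.IdealSheafData.comap_comp,
      (comap_eq_bot_iff J.subschemeι J).2 J.ker_subschemeι.ge, Scheme.IdealSheafData.comap_bot]
  exact le_antisymm (key h) (key fun i => (h i).symm)

end GrothLib.Hilb26
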