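import Groth.Agent.Lib.Hilb26.Affine

/-!
# Closed conditions on families of finite locally free subschemes
-/

set_option autoImplicit false
set_option linter.style.haveILetI false
set_option backward.isDefEq.respectTransparency false
universe u

noncomputable section

open CategoryTheory CategoryTheory.Limits AlgebraicGeometry TensorProduct

namespace GrothLib.Hilb26

open GrothLib.HilbFun

/-- Vanishing after base change of an ideal of a finite projective algebra is given by an ideal of the base. -/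
theorem le_ker_includeRight_iff {A C D : Type u} [CommRing A] [CommRing C] [CommRing D] [Algebra A C] [Algebra A D]
    [Module.Projective A C] (𝔞 : Ideal C) :
    𝔞 ≤ RingHom.ker (Algebra.TensorProduct.includeRight (R := A) (A := D) (B := C)).toRingHom ↔
      Ideal.span {r : A | ∃ θ : C →ₗ[A] A, ∃ x ∈ 𝔞, θ x = r} ≤ RingHom.ker (algebraMap A D) := by
  refine ⟨fun h => Ideal.span_le.2 ?_, fun h x hx => ?_⟩
  · rintro _ ⟨θ, x, hx, rfl⟩
    have h0 : (1 : D) ⊗ₜ[A] x = 0 := h hx
    have h1 := congrArg ((TensorProduct.rid A D).toLinearMap ∘ₗ θ.lTensor D) h0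
    simpa [RingHom.mem_ker, Algebra.smul_def] using h1
  · obtain ⟨s, hs⟩ := (Module.projective_def'.1 (inferInstance : Module.Projective A C))
    rw [RingHom.mem_ker]
    show (1 : D) ⊗ₜ[A] x = 0
    rw [← show Finsupp.linearCombination A id (s x) = x from LinearMap.congr_fun hs x,
      Finsupp.linearCombination_apply, Finsupp.sum, TensorProduct.tmul_sum]
    refine Finset.sum_eq_zero fun e _ => ?_
    rw [← TensorProduct.smul_tmul, Algebra.smul_def, mul_one,
      show algebraMap A D (s x e) = 0 from RingHom.mem_ker.1 (h (Ideal.subset_span ⟨(Finsupp.lapply e).comp s, x, hx, rfl⟩)),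
      TensorProduct.zero_tmul]

/-- The ideal sheaf of a closed condition: vanishing on a finite locally free cover. -/
theorem exists_vanishing_locus {W T : Scheme.{u}} (π : W ⟶ T) {d : ℕ} (h : Mor2.IsFinLocFreeOfDeg d π)
    (I : W.IdealSheafData) : ∃ K : T.IdealSheafData, ∀ {T' W' : Scheme.{u}} (t : T' ⟶ T) (q : W' ⟶ W) (π' : W' ⟶ T'),
      IsPullback q π' π t → (I.comap q = ⊥ ↔ K ≤ t.ker) := by
  let P : ∀ T' : Scheme.{u}, (T' ⟶ T) → Prop := fun T' t => I.comap (pullback.fst π t) = ⊥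
  have hiff : ∀ {T' W' : Scheme.{u}} {t : T' ⟶ T} {q : W' ⟶ W} {π' : W' ⟶ T'}, IsPullback q π' π t →
      (I.comap q = ⊥ ↔ P T' t) := by
    intro T' W' t q π' H
    show _ ↔ I.comap (pullback.fst π t) = ⊥
    refine ⟨fun e => ?_, fun e => ?_⟩
    · rw [← H.isoPullback_inv_fst, Scheme.IdealSheafData.comap_comp, e, Scheme.IdealSheafData.comap_bot]
    · rw [← H.isoPullback_hom_fst, Scheme.IdealSheafData.comap_comp, e, Scheme.IdealSheafData.comap_bot]
  haveI := h.1.1
  obtain ⟨K, hK⟩ := LocClosedRep.exists_ideal_iff P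
    (fun {T₁ T₂} j t (ht : I.comap (pullback.fst π t) = ⊥) => by
      show I.comap (pullback.fst π (j ≫ t)) = ⊥
      rw [← show pullback.lift (pullback.fst π (j ≫ t)) (pullback.snd π (j ≫ t) ≫ j)
          (by rw [pullback.condition, Category.assoc]) ≫ pullback.fst π t = _ from pullback.lift_fst _ _ _,
        Scheme.IdealSheafData.comap_comp, ht, Scheme.IdealSheafData.comap_bot])
    (fun {T₁} t ht => by
      refine eq_bot_of_local _ fun x => ?_
      obtain ⟨V, hxV, hV⟩ := ht (pullback.snd π t x)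
      refine ⟨pullback.snd π t ⁻¹ᵁ V, hxV, ?_⟩
      change I.comap (pullback.fst π (V.ι ≫ t)) = ⊥ at hV
      rw [← Scheme.IdealSheafData.comap_comp, ← show pullback.lift ((pullback.snd π t ⁻¹ᵁ V).ι ≫ pullback.fst π t)
          (pullback.snd π t ∣_ V) (by rw [Category.assoc, pullback.condition, morphismRestrict_ι_assoc]) ≫
            pullback.fst π (V.ι ≫ t) = _ from pullback.lift_fst _ _ _,
        Scheme.IdealSheafData.comap_comp, hV, Scheme.IdealSheafData.comap_bot])
    (G := fun _ => True) (fun _ _ => trivial)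
    (fun V hV _ => by
      have hW : IsAffineOpen (π ⁻¹ᵁ V) := hV.preimage π
      letI : Algebra Γ(T, V) Γ(W, π ⁻¹ᵁ V) := (π.appLE V (π ⁻¹ᵁ V) le_rfl).hom.toAlgebra
      have hX : IsPullback hW.fromSpec (Spec.map (CommRingCat.ofHom (algebraMap Γ(T, V) Γ(W, π ⁻¹ᵁ V)))) π hV.fromSpec :=
        isPullback_fromSpec π hV hW
      haveI : Flat π := h.1.2.1
      haveI : LocallyOfFinitePresentation π := h.1.2.2
      obtain ⟨-, hproj, -⟩ := (isFinLocFreeOfDeg_spec_iff Γ(T, V) Γ(W, π ⁻¹ᵁ V) d).1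
        ⟨⟨MorphismProperty.of_isPullback hX h.1.1, MorphismProperty.of_isPullback hX h.1.2.1,
          MorphismProperty.of_isPullback hX h.1.2.2⟩,
          fun y => by rw [Scheme.Hom.finrank_of_isPullback _ _ _ _ hX]; exact h.2 _⟩
      obtain ⟨𝔞, h𝔞⟩ := exists_quotIdeal_eq (I.comap hW.fromSpec)
      refine ⟨Ideal.span {r : Γ(T, V) | ∃ θ : Γ(W, π ⁻¹ᵁ V) →ₗ[Γ(T, V)] Γ(T, V), ∃ x ∈ 𝔞, θ x = r}, fun D χ => ?_⟩
      letI : Algebra Γ(T, V) D := χ.hom.toAlgebra
      have H := (isPullback_SpecMap_of_isPushout _ _ _ _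
        (CommRingCat.isPushout_tensorProduct Γ(T, V) D Γ(W, π ⁻¹ᵁ V))).flip.paste_horiz hX
      refine (hiff H).symm.trans ?_
      rw [Scheme.IdealSheafData.comap_comp, ← h𝔞, comap_eq_bot_iff, quotIdeal_le_ker_iff]
      exact le_ker_includeRight_iff (A := Γ(T, V)) 𝔞)
    (fun _ => ⟨⊤, trivial, trivial⟩)
  exact ⟨K, fun t q π' H => (hiff H).trans (hK t)⟩

variable {X S : Scheme.{u}} (f : X ⟶ S) (d : ℕ)

/-- Containment of a family in a closed subscheme is a closed condition. -/
theorem exists_le_locus {T : Over S} (I : (PicF.XT f T).IdealSheafData) (Z : HilbD.Obj f d T) :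
    ∃ K : T.left.IdealSheafData, ∀ {T' : Over S} (g : T' ⟶ T),
      HilbD.pull f g I ≤ HilbD.pull f g Z.1 ↔ K ≤ g.left.ker := by
  obtain ⟨K, hK⟩ := exists_vanishing_locus _ Z.2 (I.comap Z.1.subschemeι)
  refine ⟨K, fun {T'} g => ?_⟩
  have H := isPullback_subscheme_pull f g Z.1
  rw [← hK g.left _ _ H, pull_eq_comap, pull_eq_comap, ← Scheme.IdealSheafData.comap_comp,
    show ((Z.1.comapIso (PicF.XTmap f g)).hom ≫ pullback.snd _ _) ≫ Z.1.subschemeι =
      (Z.1.comap (PicF.XTmap f g)).subschemeι ≫ PicF.XTmap f g by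
      rw [Category.assoc, ← pullback.condition, Scheme.IdealSheafData.comapIso_hom_fst_assoc],
    Scheme.IdealSheafData.comap_comp, comap_eq_bot_iff, Scheme.IdealSheafData.ker_subschemeι]

/-- Equality of two families is a closed condition. -/
theorem exists_eq_locus {T : Over S} (Z₁ Z₂ : HilbD.Obj f d T) :
    ∃ K : T.left.IdealSheafData, ∀ {T' : Over S} (g : T' ⟶ T),
      HilbD.pull f g Z₁.1 = HilbD.pull f g Z₂.1 ↔ K ≤ g.left.ker := by
  obtain ⟨K₁, h₁⟩ := exists_le_locus f d Z₁.1 Z₂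
  obtain ⟨K₂, h₂⟩ := exists_le_locus f d Z₂.1 Z₁
  exact ⟨K₁ ⊔ K₂, fun g => by rw [sup_le_iff, ← h₁, ← h₂, le_antisymm_iff]⟩

/-- A representing scheme of the Hilbert functor of points is separated. -/
theorem isSeparated_of_isUniversal {H : Over S} {Z : HilbD.Obj f d H} (hZ : HilbD.IsUniversal f d H Z) :
    IsSeparated H.hom := by
  let T : Over S := Over.mk (pullback.fst H.hom H.hom ≫ H.hom)
  let a : T ⟶ H := Over.homMk (pullback.fst H.hom H.hom) rfl
  let b : T ⟶ H := Over.homMk (pullback.snd H.hom H.hom) pullback.condition.symm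
  obtain ⟨K, hK⟩ := exists_eq_locus f d ⟨HilbD.pull f a Z.1, isFinLocFreeOfDeg_pull f a Z.2⟩
    ⟨HilbD.pull f b Z.1, isFinLocFreeOfDeg_pull f b Z.2⟩
  simp only [pull_pull] at hK
  let Δ : H ⟶ T := Over.homMk (pullback.diagonal H.hom) (pullback.lift_fst_assoc _ _ _ _ |>.trans (Category.id_comp _))
  have hΔ : K ≤ (pullback.diagonal H.hom).ker := (hK Δ).1 (by
    congr 1
    ext1
    exact (pullback.lift_fst _ _ _).trans (pullback.lift_snd _ _ _).symm)
  let l : H.left ⟶ K.subscheme := IsClosedImmersion.lift K.subschemeι _ (by rwa [Scheme.IdealSheafData.ker_subschemeι])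
  have hl : l ≫ K.subschemeι = pullback.diagonal H.hom := IsClosedImmersion.lift_fac _ _ _
  let P : Over S := Over.mk (K.subschemeι ≫ T.hom)
  let c : P ⟶ T := Over.homMk K.subschemeι rfl
  have heq : c ≫ a = c ≫ b :=
    (hZ P ⟨HilbD.pull f (c ≫ b) Z.1, isFinLocFreeOfDeg_pull f _ Z.2⟩).unique
      ((hK c).2 K.ker_subschemeι.ge) rfl
  have hinv : (K.subschemeι ≫ pullback.fst H.hom H.hom) ≫ l = 𝟙 _ := by
    rw [← cancel_mono K.subschemeι, Category.assoc, hl, Category.id_comp]
    apply pullback.hom_ext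
    · rw [Category.assoc, pullback.diagonal_fst, Category.comp_id]
    · rw [Category.assoc, pullback.diagonal_snd, Category.comp_id]
      exact congrArg CategoryTheory.Over.Hom.left heq
  haveI : IsIso l := ⟨K.subschemeι ≫ pullback.fst H.hom H.hom, by
    rw [reassoc_of% hl, pullback.diagonal_fst], hinv⟩
  exact ⟨by rw [← hl]; infer_instance⟩

end GrothLib.Hilb26
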