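import Groth.Agent.Lib.Hilb26.Functor
import Groth.Agent.Lib.Grass26.Rep
import Groth.Agent.Lib.Grass26.Stable

/-!
# The Hilbert functor of points of an affine morphism
-/

set_option autoImplicit false
set_option linter.style.haveILetI false
set_option backward.isDefEq.respectTransparency false
universe u

noncomputable section

open CategoryTheory CategoryTheory.Limits AlgebraicGeometry TensorProduct

namespace GrothLib.Hilb26

open GrothLib.RepLocal GrothLib.HilbFun

/-- The ideal sheaf of an ideal on a spectrum. -/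
def quotIdeal {C : CommRingCat.{u}} (J : Ideal C) : (Spec C).IdealSheafData :=
  (Spec.map (CommRingCat.ofHom (Ideal.Quotient.mk J))).ker

theorem quotIdeal_le_ker_iff {C D : CommRingCat.{u}} (ψ : C ⟶ D) (J : Ideal C) :
    quotIdeal J ≤ (Spec.map ψ).ker ↔ J ≤ RingHom.ker ψ.hom := by
  refine ⟨fun h => ?_, fun h => ?_⟩
  · obtain ⟨χ, hχ⟩ : ∃ χ, Spec.map χ = IsClosedImmersion.lift (Spec.map (CommRingCat.ofHom (Ideal.Quotient.mk J))) (Spec.map ψ) h :=
      Spec.map_surjective _
    have e : CommRingCat.ofHom (Ideal.Quotient.mk J) ≫ χ = ψ := Spec.map_injective (by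
      rw [Spec.map_comp, hχ, IsClosedImmersion.lift_fac])
    intro x hx
    rw [RingHom.mem_ker, ← e]
    show χ.hom (Ideal.Quotient.mk J x) = 0
    rw [Ideal.Quotient.eq_zero_iff_mem.2 hx, map_zero]
  · have e : CommRingCat.ofHom (Ideal.Quotient.mk J) ≫ CommRingCat.ofHom (Ideal.Quotient.lift J ψ.hom h) = ψ := by
      ext x
      simp
    rw [← e, Spec.map_comp]
    exact Scheme.Hom.le_ker_comp _ _

theorem quotIdeal_le_iff {C : CommRingCat.{u}} (J J' : Ideal C) : quotIdeal J ≤ quotIdeal J' ↔ J ≤ J' := by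
  refine (quotIdeal_le_ker_iff (CommRingCat.ofHom (Ideal.Quotient.mk J')) J).trans ?_
  rw [CommRingCat.hom_ofHom, Ideal.mk_ker]

theorem quotIdeal_injective (C : CommRingCat.{u}) : Function.Injective (quotIdeal (C := C)) := fun J J' h =>
  le_antisymm ((quotIdeal_le_iff J J').1 h.le) ((quotIdeal_le_iff J' J).1 h.ge)

theorem exists_quotIdeal_eq {C : CommRingCat.{u}} (I : (Spec C).IdealSheafData) : ∃ J, quotIdeal J = I := by
  obtain ⟨J, e, he⟩ := IsClosedImmersion.Spec_iff.1 (inferInstance : IsClosedImmersion I.subschemeι)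
  refine ⟨J, ?_⟩
  rw [← I.ker_subschemeι, he, Scheme.Hom.ker_comp_of_isIso]
  rfl

theorem comap_quotIdeal {C D : CommRingCat.{u}} (ψ : C ⟶ D) (J : Ideal C) :
    (quotIdeal J).comap (Spec.map ψ) = quotIdeal (J.map ψ.hom) := by
  refine eq_of_forall_ge_iff fun K => ?_
  obtain ⟨J', rfl⟩ := exists_quotIdeal_eq K
  rw [quotIdeal_le_iff, quotIdeal, quotIdeal, ← comap_eq_bot_iff (Spec.map (CommRingCat.ofHom (Ideal.Quotient.mk J'))),
    ← Scheme.IdealSheafData.comap_comp, comap_eq_bot_iff, ← Spec.map_comp, ← quotIdeal,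
    quotIdeal_le_ker_iff, Ideal.map_le_iff_le_comap, CommRingCat.hom_comp, ← RingHom.comap_ker, CommRingCat.hom_ofHom,
    Ideal.mk_ker]

theorem comap_ker_iso {W Y Y' : Scheme.{u}} (j : W ⟶ Y) [IsClosedImmersion j] (e : Y' ≅ Y) :
    j.ker.comap e.hom = (j ≫ e.inv).ker :=
  comap_ker j (q := 𝟙 W) (IsPullback.of_vert_isIso ⟨by simp⟩)

theorem isFinLocFreeOfDeg_iso_comp {W W' Y : Scheme.{u}} (e : W ≅ W') (g : W' ⟶ Y) (d : ℕ) :
    Mor2.IsFinLocFreeOfDeg d (e.hom ≫ g) ↔ Mor2.IsFinLocFreeOfDeg d g := by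
  have h0 : Mor2.IsFinLocFree (e.hom ≫ g) ↔ Mor2.IsFinLocFree g :=
    and_congr (MorphismProperty.cancel_left_of_respectsIso @IsFinite _ _)
      (and_congr (MorphismProperty.cancel_left_of_respectsIso @Flat _ _)
        (MorphismProperty.cancel_left_of_respectsIso @LocallyOfFinitePresentation _ _))
  refine ⟨fun h => ⟨h0.1 h.1, fun y => ?_⟩, fun h => ⟨h0.2 h.1, fun y => ?_⟩⟩
  · haveI := (h0.1 h.1).1
    haveI := (h0.1 h.1).2.1
    rw [← h.2 y, Scheme.Hom.finrank_comp_left_of_isIso]
  · haveI := h.1.1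
    haveI := h.1.2.1
    rw [Scheme.Hom.finrank_comp_left_of_isIso]
    exact h.2 y

theorem isFinLocFreeOfDeg_spec_iff (B D : Type u) [CommRing B] [CommRing D] [Algebra B D] (d : ℕ) :
    Mor2.IsFinLocFreeOfDeg d (Spec.map (CommRingCat.ofHom (algebraMap B D))) ↔
      Module.Finite B D ∧ Module.Projective B D ∧ ∀ p, Module.rankAtStalk (R := B) D p = d := by
  refine ⟨fun ⟨⟨h1, h2, h3⟩, h4⟩ => ?_, fun ⟨h1, h2, h3⟩ => ?_⟩
  · rw [IsFinite.SpecMap_iff, CommRingCat.hom_ofHom, RingHom.finite_algebraMap] at h1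
    rw [Flat.SpecMap_iff, CommRingCat.hom_ofHom, RingHom.flat_algebraMap_iff] at h2
    rw [HasRingHomProperty.Spec_iff (P := @LocallyOfFinitePresentation), CommRingCat.hom_ofHom,
      RingHom.finitePresentation_algebraMap] at h3
    haveI : Module.FinitePresentation B D := Module.FinitePresentation.of_finite_of_finitePresentation B D
    exact ⟨h1, Module.Flat.projective_of_finitePresentation, fun p =>
      (Scheme.Hom.finrank_SpecMap_algebraMap B D p).symm.trans (h4 p)⟩
  · haveI : Module.FinitePresentation B D := Module.finitePresentation_of_projective B D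
    refine ⟨⟨?_, ?_, ?_⟩, fun p => (Scheme.Hom.finrank_SpecMap_algebraMap B D p).trans (h3 p)⟩
    · rw [IsFinite.SpecMap_iff, CommRingCat.hom_ofHom, RingHom.finite_algebraMap]; infer_instance
    · rw [Flat.SpecMap_iff, CommRingCat.hom_ofHom, RingHom.flat_algebraMap_iff]; infer_instance
    · rw [HasRingHomProperty.Spec_iff (P := @LocallyOfFinitePresentation), CommRingCat.hom_ofHom,
        RingHom.finitePresentation_algebraMap]
      infer_instance

variable {X S : Scheme.{u}} (f : X ⟶ S) (d : ℕ) {R A₀ : Type u} [CommRing R] [CommRing A₀] [Algebra R A₀]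
  {u₀ : Spec (CommRingCat.of R) ⟶ S} {a : Spec (CommRingCat.of A₀) ⟶ X}
  (hX : IsPullback a (Spec.map (CommRingCat.ofHom (algebraMap R A₀))) f u₀)

/-- The coordinate ring of the base change to an affine test object. -/
abbrev TP (A₀ : Type u) [CommRing A₀] [Algebra R A₀] (B : CommAlgCat.{u} R) : CommRingCat.{u} :=
  CommRingCat.of (↑B ⊗[R] A₀)

include hX in
theorem isPullback_XT_affine (B : CommAlgCat.{u} R) :
    IsPullback (Spec.map (CommRingCat.ofHom (Algebra.TensorProduct.includeRight (R := R) (A := B) (B := A₀)).toRingHom) ≫ a)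
      (Spec.map (CommRingCat.ofHom (S := (↑B ⊗[R] A₀)) Algebra.TensorProduct.includeLeftRingHom))
      f (tSpec u₀ B).hom :=
  (isPullback_SpecMap_of_isPushout _ _ _ _ (CommRingCat.isPushout_tensorProduct R B A₀)).flip.paste_horiz hX

/-- The base change to an affine test object is affine. -/
def xtIso (B : CommAlgCat.{u} R) : Spec (TP A₀ B) ≅ PicF.XT f (tSpec u₀ B) :=
  (isPullback_XT_affine f hX B).isoPullback

/-- The change of coordinate rings. -/
def tpMap {B C : CommAlgCat.{u} R} (φ : B ⟶ C) : TP A₀ B ⟶ TP A₀ C :=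
  CommRingCat.ofHom (Algebra.TensorProduct.map φ.hom (AlgHom.id R A₀)).toRingHom

theorem xtIso_hom_map {B C : CommAlgCat.{u} R} (φ : B ⟶ C) :
    (xtIso f hX C).hom ≫ PicF.XTmap f (tHom u₀ φ) = Spec.map (tpMap φ) ≫ (xtIso f hX B).hom := by
  apply pullback.hom_ext
  · simp only [Category.assoc, PicF.XTmap, pullback.lift_fst, pullback.lift_fst_assoc, Category.comp_id, xtIso,
      IsPullback.isoPullback_hom_fst, IsPullback.isoPullback_hom_fst_assoc]
    rw [← Category.assoc, ← Spec.map_comp]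
    congr 2
    ext x
    show (1 : C) ⊗ₜ[R] x = Algebra.TensorProduct.map φ.hom (AlgHom.id R A₀) ((1 : B) ⊗ₜ[R] x)
    rw [Algebra.TensorProduct.map_tmul, map_one, AlgHom.id_apply]
  · simp only [Category.assoc, PicF.XTmap, pullback.lift_snd, pullback.lift_snd_assoc, xtIso,
      IsPullback.isoPullback_hom_snd, IsPullback.isoPullback_hom_snd_assoc]
    show _ ≫ Spec.map (CommRingCat.ofHom φ.hom.toRingHom) = _
    rw [← Spec.map_comp, ← Spec.map_comp]
    congr 1

/-- The closed subscheme of an ideal. -/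
def toSch (B : CommAlgCat.{u} R) (J : Ideal (TP A₀ B)) : (PicF.XT f (tSpec u₀ B)).IdealSheafData :=
  (quotIdeal J).comap (xtIso f hX B).inv

theorem toSch_injective (B : CommAlgCat.{u} R) : Function.Injective (toSch f hX B) := fun J J' h => by
  refine quotIdeal_injective _ ?_
  have := congrArg (fun I : Scheme.IdealSheafData _ => I.comap (xtIso f hX B).hom) h
  simpa only [toSch, ← Scheme.IdealSheafData.comap_comp, Iso.hom_inv_id, Scheme.IdealSheafData.comap_id] using this

theorem exists_toSch_eq (B : CommAlgCat.{u} R) (I : (PicF.XT f (tSpec u₀ B)).IdealSheafData) :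
    ∃ J, toSch f hX B J = I := by
  obtain ⟨J, hJ⟩ := exists_quotIdeal_eq (I.comap (xtIso f hX B).hom)
  refine ⟨J, ?_⟩
  rw [toSch, hJ, ← Scheme.IdealSheafData.comap_comp, Iso.inv_hom_id, Scheme.IdealSheafData.comap_id]

theorem pull_toSch {B C : CommAlgCat.{u} R} (φ : B ⟶ C) (J : Ideal (TP A₀ B)) :
    HilbD.pull f (tHom u₀ φ) (toSch f hX B J) = toSch f hX C (J.map (tpMap φ).hom) := by
  rw [pull_eq_comap, toSch, toSch, ← comap_quotIdeal, ← Scheme.IdealSheafData.comap_comp,
    ← Scheme.IdealSheafData.comap_comp]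
  congr 1
  rw [Iso.eq_inv_comp, ← Category.assoc, xtIso_hom_map, Category.assoc, Iso.hom_inv_id, Category.comp_id]

theorem toSch_mem_iff (B : CommAlgCat.{u} R) (J : Ideal (TP A₀ B)) :
    Mor2.IsFinLocFreeOfDeg d ((toSch f hX B J).subschemeι ≫ PicF.XTproj f (tSpec u₀ B)) ↔
      Module.Finite B ((↑B ⊗[R] A₀) ⧸ J) ∧ Module.Projective B ((↑B ⊗[R] A₀) ⧸ J) ∧
        ∀ p, Module.rankAtStalk (R := B) ((↑B ⊗[R] A₀) ⧸ J) p = d := by
  refine Iff.trans ?_ (isFinLocFreeOfDeg_spec_iff B ((↑B ⊗[R] A₀) ⧸ J) d)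
  haveI : IsClosedImmersion (Spec.map (CommRingCat.ofHom (Ideal.Quotient.mk J))) :=
    IsClosedImmersion.spec_of_surjective _ Ideal.Quotient.mk_surjective
  let j := Spec.map (CommRingCat.ofHom (Ideal.Quotient.mk J)) ≫ (xtIso f hX B).hom
  haveI : IsClosedImmersion j := inferInstanceAs (IsClosedImmersion (_ ≫ _))
  have hj : toSch f hX B J = j.ker := comap_ker_iso _ (xtIso f hX B).symm
  obtain ⟨e, he⟩ := exists_iso_ker j
  rw [hj, ← isFinLocFreeOfDeg_iso_comp e, reassoc_of% he]
  have : j ≫ PicF.XTproj f (tSpec u₀ B) = Spec.map (CommRingCat.ofHom (algebraMap B ((↑B ⊗[R] A₀) ⧸ J))) := by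
    show (_ ≫ (isPullback_XT_affine f hX B).isoPullback.hom) ≫ pullback.snd _ _ = _
    rw [Category.assoc, IsPullback.isoPullback_hom_snd, ← Spec.map_comp]
    rfl
  rw [this]

include hX in
/-- Representability of the Hilbert functor of points over an affine piece of the base with affine preimage. -/
theorem exists_repOn_affine [IsOpenImmersion u₀] {U : S.Opens} (hU : (U : Set S) = Set.range u₀) :
    ∃ (N : Over S) (n : HilbD.Obj f d N), RepOn (hilb f d) U N n := by
  let v : (A₀ →₀ R) →ₗ[R] A₀ := Finsupp.linearCombination R (id : A₀ → A₀)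
  have hv : Function.Surjective v := fun x => ⟨Finsupp.single x 1, by simp [v]⟩
  let 𝔄 := Grass26.grassAtlas d (Finsupp.basisSingleOne : Module.Basis A₀ R (A₀ →₀ R))
  obtain ⟨X₂, e₂, he₂⟩ := Grass26.exists_rep_of_surjective v hv 𝔄.X 𝔄.equiv
    fun A B φ g g' h => 𝔄.equiv_natural A B φ g g' h
  obtain ⟨Z, ι, hι, hZ⟩ := Grass26.exists_stable_closedSubscheme A₀ X₂ e₂ he₂
  haveI := hι
  let H : Over (Spec (CommRingCat.of R)) := Over.mk (ι ≫ X₂.hom)
  let i : H ⟶ X₂ := Over.homMk ι rfl
  have hideal : ∀ (B : CommAlgCat.{u} R) (g : Grass26.Pt H B),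
      ∃ J : Ideal (↑B ⊗[R] A₀), J.restrictScalars (B : Type u) = (e₂ B (g ≫ i)).toSubmodule := by
    intro B g
    have hst := (hZ B (g ≫ i)).1 ⟨g.left, rfl⟩
    refine ⟨{ (e₂ B (g ≫ i)).toSubmodule.toAddSubmonoid with smul_mem' := fun c x hx => ?_ }, rfl⟩
    induction c with
    | zero => rw [zero_smul]; exact zero_mem (e₂ B (g ≫ i)).toSubmodule
    | tmul b m =>
      rw [smul_eq_mul, show b ⊗ₜ[R] m = b • ((1 : B) ⊗ₜ[R] m) by rw [TensorProduct.smul_tmul', smul_eq_mul, mul_one],
        smul_mul_assoc]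
      exact Submodule.smul_mem _ _ (hst m x hx)
    | add y z hy hz => rw [add_smul]; exact (e₂ B (g ≫ i)).toSubmodule.add_mem hy hz
  choose J hJ using hideal
  have hmem : ∀ (B : CommAlgCat.{u} R) (g : Grass26.Pt H B),
      Mor2.IsFinLocFreeOfDeg d ((toSch f hX B (J B g)).subschemeι ≫ PicF.XTproj f (tSpec u₀ B)) := by
    intro B g
    rw [toSch_mem_iff]
    let G := e₂ B (g ≫ i)
    let eq := (Submodule.quotEquivOfEq _ _ (hJ B g).symm).trans
      (Submodule.Quotient.restrictScalarsEquiv (B : Type u) (J B g))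
    exact ⟨Module.Finite.equiv eq, Module.Projective.of_equiv eq,
      fun p => (congrFun (Module.rankAtStalk_eq_of_equiv eq.symm) p).trans (G.rankAtStalk_eq p)⟩
  have hbij : ∀ B : CommAlgCat.{u} R, Function.Bijective
      (fun g : Grass26.Pt H B => (⟨toSch f hX B (J B g), hmem B g⟩ : HilbD.Obj f d (tSpec u₀ B))) := by
    intro B
    refine ⟨fun g g' h => ?_, fun Z' => ?_⟩
    · have h' : J B g = J B g' := toSch_injective f hX B (congrArg Subtype.val h)
      have h1 : g ≫ i = g' ≫ i := (e₂ B).injective (Module.Grassmannian.ext (by rw [← hJ, ← hJ, h']))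
      ext1
      exact (cancel_mono ι).1 (congrArg CategoryTheory.Over.Hom.left h1)
    · obtain ⟨J', hJ'⟩ := exists_toSch_eq f hX B Z'.1
      obtain ⟨h1, h2, h3⟩ := (toSch_mem_iff f d hX B J').1 (hJ' ▸ Z'.2)
      let eq := Submodule.Quotient.restrictScalarsEquiv (B : Type u) J'
      let G : (Grass26.GrF R A₀ d).obj B :=
        { toSubmodule := J'.restrictScalars (B : Type u)
          finite_quotient := Module.Finite.equiv eq.symm
          projective_quotient := Module.Projective.of_equiv eq.symm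
          rankAtStalk_eq := fun p => (congrFun (Module.rankAtStalk_eq_of_equiv eq) p).trans (h3 p) }
      obtain ⟨h, hh⟩ := (hZ B ((e₂ B).symm G)).2 (by
        rw [Equiv.apply_symm_apply]
        exact fun m x hx => Ideal.mul_mem_left J' _ hx)
      let g : Grass26.Pt H B := Over.homMk h (by
        show h ≫ ι ≫ X₂.hom = _
        rw [reassoc_of% hh]
        exact Over.w ((e₂ B).symm G))
      refine ⟨g, Subtype.ext ?_⟩
      show toSch f hX B (J B g) = Z'.1
      rw [← hJ']
      congr 1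
      refine Submodule.restrictScalars_injective (B : Type u) (↑B ⊗[R] A₀) (↑B ⊗[R] A₀) ?_
      rw [hJ, show g ≫ i = (e₂ B).symm G by ext1; exact hh, Equiv.apply_symm_apply]
  refine repOn_of_points f d u₀ hU H (fun B => Equiv.ofBijective _ (hbij B)) fun A B φ g => ?_
  show toSch f hX B (J B (Grass26.res φ g)) = HilbD.pull f (tHom u₀ φ) (toSch f hX A (J A g))
  rw [pull_toSch]
  congr 1
  have hspan : (J B (Grass26.res φ g)).restrictScalars (B : Type u) =
      Submodule.span (B : Type u) (Grass26.chg φ.hom '' (J A g : Set (↑A ⊗[R] A₀))) := by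
    rw [hJ, he₂ A B φ (g ≫ i) (Grass26.res φ g ≫ i) (by simp [Grass26.res_left])]
    show (Module.Grassmannian.map φ.hom _).toSubmodule = _
    rw [Grass26.map_eq_span, ← hJ]
    rfl
  have hΦ : ∀ z : ↑A ⊗[R] A₀, (tpMap φ).hom z = Grass26.chg φ.hom z := fun z => by
    induction z with
    | zero => exact (map_zero _).trans (map_zero _).symm
    | tmul x m => exact Algebra.TensorProduct.map_tmul _ _ _ _
    | add x y hx hy => exact (map_add _ _ _).trans ((congrArg₂ (· + ·) hx hy).trans (map_add _ _ _).symm)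
  refine le_antisymm (fun z hz => ?_) (Ideal.map_le_iff_le_comap.2 fun z hz => ?_)
  · have : z ∈ Submodule.span (B : Type u) (Grass26.chg φ.hom '' (J A g : Set (↑A ⊗[R] A₀))) := hspan ▸ hz
    clear hz
    induction this using Submodule.span_induction with
    | mem x hx => obtain ⟨y, hy, rfl⟩ := hx; rw [← hΦ]; exact Ideal.mem_map_of_mem _ hy
    | zero => exact zero_mem _
    | add x y _ _ hx hy => exact add_mem hx hy
    | smul c x _ hx => rw [Algebra.smul_def]; exact Ideal.mul_mem_left _ _ hx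
  · rw [Ideal.mem_comap, hΦ, ← Submodule.restrictScalars_mem (B : Type u), hspan]
    exact Submodule.subset_span ⟨z, hz, rfl⟩

/-- The affine preimage of an affine open as a base change. -/
theorem isPullback_fromSpec {W T : Scheme.{u}} (π : W ⟶ T) {U : T.Opens} (hU : IsAffineOpen U)
    (hW : IsAffineOpen (π ⁻¹ᵁ U)) :
    IsPullback hW.fromSpec (Spec.map (π.appLE U (π ⁻¹ᵁ U) le_rfl)) π hU.fromSpec := by
  refine (isPullback_morphismRestrict π U).flip.of_iso hW.isoSpec (Iso.refl _) hU.isoSpec (Iso.refl _) ?_ ?_ ?_ ?_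
  · simp
  · rw [← cancel_mono hU.fromSpec, Category.assoc, Category.assoc, hU.isoSpec_hom_fromSpec,
      IsAffineOpen.SpecMap_appLE_fromSpec π hU hW le_rfl, hW.isoSpec_hom_fromSpec_assoc, morphismRestrict_ι]
  · simp
  · simp

/-- The Hilbert functor of points of an affine morphism is representable over every affine open of the base. -/
theorem exists_repOn_of_isAffineHom [IsAffineHom f] (U : S.affineOpens) :
    ∃ (N : Over S) (n : HilbD.Obj f d N), RepOn (hilb f d) U.1 N n := by
  have hW : IsAffineOpen (f ⁻¹ᵁ U.1) := U.2.preimage f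
  letI : Algebra Γ(S, U) Γ(X, f ⁻¹ᵁ U.1) := (f.appLE U.1 (f ⁻¹ᵁ U.1) le_rfl).hom.toAlgebra
  exact exists_repOn_affine f d (R := Γ(S, U)) (A₀ := Γ(X, f ⁻¹ᵁ U.1)) (isPullback_fromSpec f U.2 hW) (U.2.range_fromSpec).symm

theorem representable_of_isAffineHom [IsAffineHom f] : HilbD.Representable f d :=
  representable_of_repOn f d (exists_repOn_of_isAffineHom f d)

end GrothLib.Hilb26
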