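import Mathlib.RingTheory.TensorProduct.Basic
import Mathlib.RingTheory.TensorProduct.Maps
import Mathlib.RingTheory.Artinian.Ring
import Mathlib.FieldTheory.IsAlgClosed.Basic
import Mathlib.LinearAlgebra.FiniteDimensional.Lemmas
import Mathlib.LinearAlgebra.Dimension.Constructions
import Mathlib.RingTheory.Spectrum.Prime.FreeLocus
import Mathlib.Algebra.Polynomial.AlgebraMap
import Mathlib.Tactic.LinearCombination

/-!
# Pencils of ideals in a residually rational algebra
-/

set_option autoImplicit false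
set_option linter.style.haveILetI false
universe u

noncomputable section

open TensorProduct

namespace GrothLib.Hilb26

variable {k R : Type u} [Field k] [CommRing R] [Algebra k R]

section field

variable {L : Type u} [Field L] [Algebra k L]

/-- Residually rational nilpotent thickenings of a field. -/
def IsThick (L : Type u) [Field L] [Algebra k L] (R : Type u) [CommRing R] [Algebra k R] : Prop :=
  ∃ M : Ideal (L ⊗[k] R), IsNilpotent M ∧ ∀ z : L ⊗[k] R, ∃ c : L, z - c • (1 : L ⊗[k] R) ∈ M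

theorem isThick_of_isLocalRing [IsAlgClosed k] [IsLocalRing R] [Module.Finite k R] (L : Type u) [Field L] [Algebra k L] :
    IsThick (k := k) L R := by
  haveI : IsArtinianRing R := IsArtinianRing.of_finite k R
  let m := IsLocalRing.maximalIdeal R
  haveI : Module.Finite k (R ⧸ m) := Module.Finite.of_surjective (Ideal.Quotient.mkₐ k m).toLinearMap Ideal.Quotient.mk_surjective
  haveI : Algebra.IsIntegral k (R ⧸ m) := Algebra.IsIntegral.of_finite k _
  have hbij := IsAlgClosed.algebraMap_bijective_of_isIntegral (k := k) (K := R ⧸ m)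
  have hm : IsNilpotent m := by
    have h := IsArtinianRing.isNilpotent_jacobson_bot (R := R)
    rwa [IsLocalRing.jacobson_eq_maximalIdeal (⊥ : Ideal R) bot_ne_top] at h
  refine ⟨m.map (Algebra.TensorProduct.includeRight (R := k) (A := L) (B := R)).toRingHom, ?_, fun z => ?_⟩
  · obtain ⟨s, hs⟩ := hm
    exact ⟨s, by rw [← Ideal.map_pow, hs]; exact Ideal.map_bot⟩
  · induction z with
    | zero => exact ⟨0, by simp⟩
    | tmul l r =>
      obtain ⟨c, hc⟩ := hbij.2 (Ideal.Quotient.mk m r)
      have hr : r - algebraMap k R c ∈ m := Ideal.Quotient.eq.1 (hc.symm.trans rfl)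
      refine ⟨c • l, ?_⟩
      have : l ⊗ₜ[k] r - (c • l) • (1 : L ⊗[k] R) = (l ⊗ₜ[k] 1) * ((1 : L) ⊗ₜ[k] (r - algebraMap k R c)) := by
        rw [Algebra.TensorProduct.tmul_mul_tmul, mul_one, one_mul, TensorProduct.tmul_sub, Algebra.algebraMap_eq_smul_one,
          TensorProduct.tmul_smul, Algebra.TensorProduct.one_def, TensorProduct.smul_tmul', TensorProduct.smul_tmul',
          smul_eq_mul, mul_one]
      rw [this]
      exact Ideal.mul_mem_left _ _ (Ideal.mem_map_of_mem _ hr)
    | add x y hx hy =>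
      obtain ⟨c, hc⟩ := hx
      obtain ⟨c', hc'⟩ := hy
      exact ⟨c + c', by rw [add_smul, add_sub_add_comm]; exact add_mem hc hc'⟩

variable {M : Ideal (L ⊗[k] R)}

/-- Between two ideals there is an element killed by the augmentation ideal modulo the smaller one. -/
theorem exists_socle (hM : IsNilpotent M) {K J : Ideal (L ⊗[k] R)} (hKJ : ¬ J ≤ K) :
    ∃ a ∈ J, a ∉ K ∧ ∀ μ ∈ M, μ * a ∈ K := by
  obtain ⟨s, hs⟩ := hM
  have h : ∃ i, M ^ i * J ≤ K := ⟨s, by rw [hs]; simp⟩
  classical
  have h0 : Nat.find h ≠ 0 := fun e => hKJ (by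
    have := Nat.find_spec h
    rw [e] at this
    simpa using this)
  obtain ⟨i, hi⟩ := Nat.exists_eq_succ_of_ne_zero h0
  obtain ⟨a, haJ, haK⟩ := SetLike.not_le_iff_exists.1 (Nat.find_min h (show i < Nat.find h by omega))
  refine ⟨a, Ideal.mul_le_right haJ, haK, fun μ hμ => ?_⟩
  have := Nat.find_spec h
  rw [hi, pow_succ', mul_assoc] at this
  exact this (Ideal.mul_mem_mul hμ haJ)

/-- A subspace stable under the augmentation ideal is an ideal. -/
theorem exists_ideal_of_stable (hres : ∀ z : L ⊗[k] R, ∃ c : L, z - c • (1 : L ⊗[k] R) ∈ M)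
    (W : Submodule L (L ⊗[k] R)) (hW : ∀ μ ∈ M, ∀ w ∈ W, μ * w ∈ W) :
    ∃ J : Ideal (L ⊗[k] R), J.restrictScalars L = W := by
  refine ⟨{ W.toAddSubmonoid with smul_mem' := fun z w hw => ?_ }, rfl⟩
  obtain ⟨c, hc⟩ := hres z
  have e : z • w = (z - c • (1 : L ⊗[k] R)) * w + c • w := by
    rw [sub_mul, smul_mul_assoc, one_mul, sub_add_cancel]
    rfl
  rw [e]
  exact W.add_mem (hW _ hc w hw) (W.smul_mem c hw)

end field



variable {L : Type u} [CommRing L] [Algebra k L]

variable (L) in
/-- Extension of constants to polynomials. -/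
def incPoly : L ⊗[k] R →ₐ[k] Polynomial L ⊗[k] R :=
  Algebra.TensorProduct.map (IsScalarTower.toAlgHom k L (Polynomial L)) (AlgHom.id k R)

/-- Evaluation at a scalar. -/
def evalT (c : L) : Polynomial L ⊗[k] R →ₐ[k] L ⊗[k] R :=
  Algebra.TensorProduct.map ((Polynomial.aeval c).restrictScalars k) (AlgHom.id k R)

theorem incPoly_smul (c : L) (z : L ⊗[k] R) : incPoly (R := R) L (c • z) = Polynomial.C c • incPoly L z := by
  induction z with
  | zero => simp
  | tmul x r => simp [incPoly, TensorProduct.smul_tmul']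
  | add x y hx hy => simp [smul_add, hx, hy]

/-- Extension of a linear form to polynomials. -/
def extForm (ξ : L ⊗[k] R →ₗ[L] L) : Polynomial L ⊗[k] R →ₗ[Polynomial L] Polynomial L :=
  ((IsScalarTower.toAlgHom k L (Polynomial L)).toLinearMap ∘ₗ ξ.restrictScalars k ∘ₗ
    (TensorProduct.mk k L R 1)).liftBaseChange (Polynomial L)

theorem extForm_inc (ξ : L ⊗[k] R →ₗ[L] L) (z : L ⊗[k] R) :
    extForm ξ (incPoly L z) = Polynomial.C (ξ z) := by
  induction z with
  | zero => simp
  | tmul x r =>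
    rw [show x ⊗ₜ[k] r = x • ((1 : L) ⊗ₜ[k] r) by simp [TensorProduct.smul_tmul'], incPoly_smul, map_smul, map_smul]
    simp [extForm, incPoly]
  | add x y hx hy => simp [hx, hy]

/-- Extension of a linear map to polynomials. -/
def extMap {m : ℕ} (ψ : L ⊗[k] R →ₗ[L] (Fin m → L)) : Polynomial L ⊗[k] R →ₗ[Polynomial L] (Fin m → Polynomial L) :=
  LinearMap.pi fun i => extForm ((LinearMap.proj i).comp ψ)

theorem extMap_inc {m : ℕ} (ψ : L ⊗[k] R →ₗ[L] (Fin m → L)) (z : L ⊗[k] R) :
    extMap ψ (incPoly L z) = fun i => Polynomial.C (ψ z i) := by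
  funext i
  exact extForm_inc _ z

theorem sub_mem_span_ker {m : ℕ} (ψ : L ⊗[k] R →ₗ[L] (Fin m → L)) (sec : Fin m → L ⊗[k] R)
    (hsec : ∀ i, ψ (sec i) = Pi.single i 1) (z : Polynomial L ⊗[k] R) :
    z - ∑ i, extMap ψ z i • incPoly L (sec i) ∈
      Submodule.span (Polynomial L) (incPoly (R := R) L '' (LinearMap.ker ψ : Set (L ⊗[k] R))) := by
  induction z with
  | zero => simp
  | tmul x r =>
    let y := (1 : L) ⊗ₜ[k] r
    have hy : y - ∑ i, ψ y i • sec i ∈ LinearMap.ker ψ := by
      rw [LinearMap.mem_ker, map_sub, map_sum, sub_eq_zero]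
      simp only [map_smul, hsec]
      exact pi_eq_sum_univ' _
    have e : x ⊗ₜ[k] r = x • incPoly L y := by
      simp [incPoly, y, TensorProduct.smul_tmul']
    have e2 : x ⊗ₜ[k] r - ∑ i, extMap ψ (x ⊗ₜ[k] r) i • incPoly L (sec i) = x • incPoly L (y - ∑ i, ψ y i • sec i) := by
      rw [map_sub, map_sum, smul_sub, Finset.smul_sum, e, map_smul, extMap_inc]
      congr 1
      exact Finset.sum_congr rfl fun i _ => by rw [incPoly_smul, Pi.smul_apply, smul_eq_mul, mul_smul]
    rw [e2]
    exact Submodule.smul_mem _ _ (Submodule.subset_span ⟨_, hy, rfl⟩)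
  | add x y hx hy =>
    have := Submodule.add_mem _ hx hy
    rw [map_add]
    simpa [add_smul, Finset.sum_add_distrib, add_sub_add_comm] using this

/-- The moving line. -/
def lineElt (a b : L ⊗[k] R) : Polynomial L ⊗[k] R :=
  ((1 : Polynomial L) - (Polynomial.X : Polynomial L)) • incPoly L b + (Polynomial.X : Polynomial L) • incPoly L a

/-- The module spanned by the moving line. -/
def lineSpan (I₁ : Ideal (L ⊗[k] R)) (a b : L ⊗[k] R) : Submodule (Polynomial L) (Polynomial L ⊗[k] R) :=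
  Submodule.span (Polynomial L) (incPoly L '' (I₁ : Set (L ⊗[k] R)) ∪ {lineElt a b})

theorem lineSpan_mul {I₁ : Ideal (L ⊗[k] R)} {a b : L ⊗[k] R} {M : Ideal (L ⊗[k] R)}
    (hres : ∀ z : L ⊗[k] R, ∃ c : L, z - c • (1 : L ⊗[k] R) ∈ M)
    (ha : ∀ μ ∈ M, μ * a ∈ I₁) (hb : ∀ μ ∈ M, μ * b ∈ I₁) (q u : Polynomial L ⊗[k] R) (hu : u ∈ lineSpan I₁ a b) :
    q * u ∈ lineSpan I₁ a b := by
  induction q with
  | zero => rw [zero_mul]; exact zero_mem _
  | add y z hy hz => rw [add_mul]; exact add_mem hy hz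
  | tmul x r =>
    have e : x ⊗ₜ[k] r = x • incPoly L ((1 : L) ⊗ₜ[k] r) := by simp [incPoly, TensorProduct.smul_tmul']
    rw [e, smul_mul_assoc]
    refine Submodule.smul_mem _ _ ?_
    induction hu using Submodule.span_induction with
    | zero => rw [mul_zero]; exact zero_mem _
    | add u v _ _ hu hv => rw [mul_add]; exact add_mem hu hv
    | smul c u _ hu => rw [mul_smul_comm]; exact Submodule.smul_mem _ _ hu
    | mem u hu =>
      rcases hu with ⟨y, hy, rfl⟩ | rfl
      · rw [← map_mul]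
        exact Submodule.subset_span (Or.inl ⟨_, Ideal.mul_mem_left _ _ hy, rfl⟩)
      · obtain ⟨c, hc⟩ := hres ((1 : L) ⊗ₜ[k] r)
        set μ := (1 : L) ⊗ₜ[k] r - c • (1 : L ⊗[k] R)
        have er : ∀ y : L ⊗[k] R, incPoly L ((1 : L) ⊗ₜ[k] r) * incPoly L y =
            Polynomial.C c • incPoly L y + incPoly L (μ * y) := fun y => by
          rw [← map_mul, ← incPoly_smul, ← map_add]
          congr 1
          simp only [μ, sub_mul, smul_mul_assoc, one_mul, add_sub_cancel]
        have : incPoly L ((1 : L) ⊗ₜ[k] r) * lineElt a b = Polynomial.C c • lineElt a b +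
            (((1 : Polynomial L) - (Polynomial.X : Polynomial L)) • incPoly L (μ * b) + (Polynomial.X : Polynomial L) • incPoly L (μ * a)) := by
          simp only [lineElt, mul_add, mul_smul_comm, er, smul_add, smul_comm (Polynomial.C c)]
          abel
        rw [this]
        exact add_mem (Submodule.smul_mem _ _ (Submodule.subset_span (Or.inr rfl))) (add_mem
          (Submodule.smul_mem _ _ (Submodule.subset_span (Or.inl ⟨_, hb μ hc, rfl⟩)))
          (Submodule.smul_mem _ _ (Submodule.subset_span (Or.inl ⟨_, ha μ hc, rfl⟩))))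

theorem lineSpan_eq_ker {I₁ : Ideal (L ⊗[k] R)} {a b : L ⊗[k] R} {m : ℕ}
    (ψ : L ⊗[k] R →ₗ[L] (Fin m → L)) (hψ : Function.Surjective ψ)
    (hker : LinearMap.ker ψ = I₁.restrictScalars L ⊔ Submodule.span L {a, b})
    (αa αb : L ⊗[k] R →ₗ[L] L) (haa : αa a = 1) (hab : αa b = 0) (hba : αb a = 0) (hbb : αb b = 1)
    (hIa : ∀ z ∈ I₁, αa z = 0) (hIb : ∀ z ∈ I₁, αb z = 0) :
    ∃ θ : Polynomial L ⊗[k] R →ₗ[Polynomial L] (Fin m → Polynomial L) × Polynomial L,
      Function.Surjective θ ∧ LinearMap.ker θ = lineSpan I₁ a b := by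
  let χ := ((Polynomial.X : Polynomial L) : Polynomial L) • extForm αb - ((1 : Polynomial L) - (Polynomial.X : Polynomial L)) • extForm αa
  have hχ : ∀ z, χ (incPoly L z) = (Polynomial.X : Polynomial L) * Polynomial.C (αb z) - ((1 : Polynomial L) - (Polynomial.X : Polynomial L)) * Polynomial.C (αa z) :=
    fun z => by
      show (Polynomial.X : Polynomial L) • extForm αb (incPoly L z) - ((1 : Polynomial L) - (Polynomial.X : Polynomial L)) • extForm αa (incPoly L z) = _
      rw [extForm_inc, extForm_inc]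
      rfl
  have hχa : χ (incPoly L a) = -((1 : Polynomial L) - (Polynomial.X : Polynomial L)) := by rw [hχ, haa, hba]; simp
  have hχb : χ (incPoly L b) = (Polynomial.X : Polynomial L) := by rw [hχ, hab, hbb]; simp
  have hψk : ∀ z ∈ LinearMap.ker ψ, extMap ψ (incPoly L z) = 0 := fun z hz => by
    rw [extMap_inc, LinearMap.mem_ker.1 hz]; funext i; simp
  have hψa := hψk a (hker ▸ Submodule.mem_sup_right (Submodule.subset_span (by simp)))
  have hψb := hψk b (hker ▸ Submodule.mem_sup_right (Submodule.subset_span (by simp)))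
  choose sec hsec using fun i : Fin m => hψ (Pi.single i 1)
  refine ⟨(extMap ψ).prod χ, fun y => ?_, le_antisymm (fun z hz => ?_) (Submodule.span_le.2 ?_)⟩
  · set s := ∑ i, y.1 i • incPoly L (sec i) with hs
    have h1 : extMap ψ s = y.1 := by
      funext j
      simp [hs, map_sum, Finset.sum_apply, extMap_inc, hsec, Pi.single_apply, apply_ite Polynomial.C]
    refine ⟨s + (y.2 - χ s) • (incPoly L b - incPoly L a), Prod.ext ?_ ?_⟩
    · show extMap ψ _ = _
      rw [map_add, h1, map_smul, map_sub, hψa, hψb, sub_zero, smul_zero, add_zero]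
    · show χ _ = _
      rw [map_add, map_smul, map_sub, hχa, hχb, smul_eq_mul, show (Polynomial.X : Polynomial L) - -((1 : Polynomial L) - (Polynomial.X : Polynomial L)) = 1 by ring, mul_one]
      ring
  · obtain ⟨hz1, hz2⟩ : extMap ψ z = 0 ∧ χ z = 0 := by
      have := LinearMap.mem_ker.1 hz
      exact ⟨congrArg Prod.fst this, congrArg Prod.snd this⟩
    have hsp : ∀ u ∈ Submodule.span (Polynomial L) (incPoly (R := R) L '' (LinearMap.ker ψ : Set (L ⊗[k] R))),
        ∃ s ∈ lineSpan I₁ a b, ∃ p q : Polynomial L, u = s + p • incPoly L b + q • incPoly L a := by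
      intro u hu
      induction hu using Submodule.span_induction with
      | mem u hu =>
        obtain ⟨y, hy, rfl⟩ := hu
        rw [SetLike.mem_coe, hker, Submodule.mem_sup] at hy
        obtain ⟨y₁, hy₁, y₂, hy₂, rfl⟩ := hy
        obtain ⟨p, q, rfl⟩ := Submodule.mem_span_pair.1 hy₂
        exact ⟨incPoly L y₁, Submodule.subset_span (Or.inl ⟨y₁, hy₁, rfl⟩), Polynomial.C q, Polynomial.C p, by
          rw [map_add, map_add, incPoly_smul, incPoly_smul]; abel⟩
      | zero => exact ⟨0, zero_mem _, 0, 0, by simp⟩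
      | add u v _ _ hu hv =>
        obtain ⟨s, hs, p, q, rfl⟩ := hu
        obtain ⟨s', hs', p', q', rfl⟩ := hv
        exact ⟨s + s', add_mem hs hs', p + p', q + q', by rw [add_smul, add_smul]; abel⟩
      | smul c u _ hu =>
        obtain ⟨s, hs, p, q, rfl⟩ := hu
        exact ⟨c • s, Submodule.smul_mem _ _ hs, c * p, c * q, by rw [smul_add, smul_add, mul_smul, mul_smul]⟩
    have hz' : z ∈ Submodule.span (Polynomial L) (incPoly (R := R) L '' (LinearMap.ker ψ : Set (L ⊗[k] R))) := by
      have h := sub_mem_span_ker ψ sec hsec z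
      simpa [hz1] using h
    obtain ⟨s, hs, p, q, rfl⟩ := hsp z hz'
    have hχS : ∀ s ∈ lineSpan I₁ a b, χ s = 0 := fun s hs => by
      induction hs using Submodule.span_induction with
      | mem u hu =>
        rcases hu with ⟨y, hy, rfl⟩ | rfl
        · rw [hχ, hIa y hy, hIb y hy]; simp
        · rw [lineElt, map_add, map_smul, map_smul, hχa, hχb, smul_eq_mul, smul_eq_mul]; ring
      | zero => simp
      | add u v _ _ hu hv => rw [map_add, hu, hv, add_zero]
      | smul c u _ hu => rw [map_smul, hu, smul_zero]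
    rw [map_add, map_add, map_smul, map_smul, hχS s hs, hχa, hχb, zero_add, smul_eq_mul, smul_eq_mul] at hz2
    have hp : p = (p + q) * ((1 : Polynomial L) - (Polynomial.X : Polynomial L)) := by linear_combination hz2
    have hq : q = (p + q) * (Polynomial.X : Polynomial L) := by linear_combination -hz2
    have e : p • incPoly L b + q • incPoly L a = (p + q) • lineElt a b := by
      have h : ((p + q) * ((1 : Polynomial L) - Polynomial.X)) • incPoly L b +
          ((p + q) * (Polynomial.X : Polynomial L)) • incPoly L a = (p + q) • lineElt a b := by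
        simp only [lineElt, smul_add, smul_smul]
      rwa [← hp, ← hq] at h
    rw [add_assoc, e]
    exact add_mem hs (Submodule.smul_mem _ _ (Submodule.subset_span (Or.inr rfl)))
  · rintro _ (⟨y, hy, rfl⟩ | rfl) <;> rw [SetLike.mem_coe, LinearMap.mem_ker] <;> refine Prod.ext ?_ ?_
    · exact hψk y (hker ▸ Submodule.mem_sup_left hy)
    · show χ (incPoly L y) = 0
      rw [hχ, hIa y hy, hIb y hy]; simp
    · show extMap ψ (lineElt a b) = 0
      rw [lineElt, map_add, map_smul, map_smul, hψa, hψb, smul_zero, smul_zero, add_zero]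
    · show χ (lineElt a b) = 0
      rw [lineElt, map_add, map_smul, map_smul, hχa, hχb, smul_eq_mul, smul_eq_mul]; ring

theorem eval_incPoly (c : L) (y : L ⊗[k] R) : evalT c (incPoly L y) = y := by
  induction y with
  | zero => rw [map_zero, map_zero]
  | tmul x r =>
    show Algebra.TensorProduct.map ((Polynomial.aeval c).restrictScalars k) (AlgHom.id k R) (Polynomial.C x ⊗ₜ[k] r) = _
    rw [Algebra.TensorProduct.map_tmul, AlgHom.id_apply]
    congr 1
    exact Polynomial.aeval_C c x
  | add x y hx hy => rw [map_add, map_add, hx, hy]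

theorem eval_smul (c : L) (q : Polynomial L) (u : Polynomial L ⊗[k] R) :
    evalT c (q • u) = Polynomial.eval c q • evalT c u := by
  induction u with
  | zero => simp
  | tmul x r =>
    rw [TensorProduct.smul_tmul', evalT, Algebra.TensorProduct.map_tmul, Algebra.TensorProduct.map_tmul, smul_eq_mul,
      map_mul, TensorProduct.smul_tmul', smul_eq_mul]
    rfl
  | add x y hx hy => rw [smul_add, map_add, map_add, smul_add, hx, hy]

/-- The family over the affine line joining two adjacent ideals. -/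
theorem exists_line {n : ℕ} {I₁ : Ideal (L ⊗[k] R)} {a b : L ⊗[k] R} {M : Ideal (L ⊗[k] R)}
    (hres : ∀ z : L ⊗[k] R, ∃ c : L, z - c • (1 : L ⊗[k] R) ∈ M)
    (ha : ∀ μ ∈ M, μ * a ∈ I₁) (hb : ∀ μ ∈ M, μ * b ∈ I₁) {m : ℕ} (hm : m + 1 = n) [Nontrivial L]
    (ψ : L ⊗[k] R →ₗ[L] (Fin m → L)) (hψ : Function.Surjective ψ)
    (hker : LinearMap.ker ψ = I₁.restrictScalars L ⊔ Submodule.span L {a, b})
    (αa αb : L ⊗[k] R →ₗ[L] L) (haa : αa a = 1) (hab : αa b = 0) (hba : αb a = 0) (hbb : αb b = 1)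
    (hIa : ∀ z ∈ I₁, αa z = 0) (hIb : ∀ z ∈ I₁, αb z = 0) :
    ∃ J : Ideal (Polynomial L ⊗[k] R), (Module.Finite (Polynomial L) ((Polynomial L ⊗[k] R) ⧸ J) ∧
        Module.Projective (Polynomial L) ((Polynomial L ⊗[k] R) ⧸ J) ∧
        ∀ p, Module.rankAtStalk (R := Polynomial L) ((Polynomial L ⊗[k] R) ⧸ J) p = n) ∧
      ∀ (c : L) (J₀ : Ideal (L ⊗[k] R)),
        J₀.restrictScalars L = I₁.restrictScalars L ⊔ Submodule.span L {(1 - c) • b + c • a} →
          J.map (evalT (R := R) c) = J₀ := by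
  let J : Ideal (Polynomial L ⊗[k] R) :=
    { (lineSpan I₁ a b).toAddSubmonoid with
      smul_mem' := fun q u hu => lineSpan_mul hres ha hb q u hu }
  have hJS : J.restrictScalars (Polynomial L) = lineSpan I₁ a b := rfl
  obtain ⟨θ, hθ, hkerθ⟩ := lineSpan_eq_ker ψ hψ hker αa αb haa hab hba hbb hIa hIb
  let eJ : ((Polynomial L ⊗[k] R) ⧸ J) ≃ₗ[Polynomial L] (Fin m → Polynomial L) × Polynomial L :=
    (Submodule.Quotient.restrictScalarsEquiv (Polynomial L) J).symm.trans
      ((Submodule.quotEquivOfEq _ _ (hJS.trans hkerθ.symm)).trans (θ.quotKerEquivOfSurjective hθ))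
  refine ⟨J, ⟨Module.Finite.equiv eJ.symm, Module.Projective.of_equiv eJ.symm, fun p => ?_⟩, fun c J₀ hJ₀ => ?_⟩
  · rw [Module.rankAtStalk_eq_of_equiv eJ, Module.rankAtStalk_eq_finrank_of_free]
    simp [Module.finrank_prod, hm]
  · have hw : (evalT (R := R) c) (lineElt a b) = (1 - c) • b + c • a := by
      rw [lineElt, map_add, eval_smul, eval_smul, eval_incPoly, eval_incPoly]
      simp
    refine le_antisymm (Ideal.map_le_iff_le_comap.2 fun u hu => ?_) (fun y hy => ?_)
    · rw [Ideal.mem_comap, ← Submodule.restrictScalars_mem L, hJ₀]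
      have hu' : u ∈ lineSpan I₁ a b := hu
      clear hu
      induction hu' using Submodule.span_induction with
      | mem u hu =>
        rcases hu with ⟨y, hy, rfl⟩ | rfl
        · rw [eval_incPoly]; exact Submodule.mem_sup_left hy
        · rw [hw]; exact Submodule.mem_sup_right (Submodule.mem_span_singleton_self _)
      | zero => rw [map_zero]; exact zero_mem _
      | add u v _ _ hu hv => rw [map_add]; exact add_mem hu hv
      | smul q u _ hu => rw [eval_smul]; exact Submodule.smul_mem _ _ hu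
    · rw [← Submodule.restrictScalars_mem L, hJ₀] at hy
      obtain ⟨y₁, hy₁, y₂, hy₂, rfl⟩ := Submodule.mem_sup.1 hy
      obtain ⟨q, rfl⟩ := Submodule.mem_span_singleton.1 hy₂
      refine add_mem ?_ ?_
      · rw [← eval_incPoly c y₁]
        exact Ideal.mem_map_of_mem _ (Submodule.subset_span (Or.inl ⟨y₁, hy₁, rfl⟩))
      · rw [← Polynomial.eval_C (a := q) (x := c), ← hw, ← eval_smul]
        exact Ideal.mem_map_of_mem _ (Submodule.smul_mem (lineSpan I₁ a b) _ (Submodule.subset_span (Or.inr rfl)))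


section field

variable {L : Type u} [Field L] [Algebra k L] [Module.Finite k R]

/-- An adjacent ideal closer to a given ideal of the same colength. -/
theorem exists_step {M : Ideal (L ⊗[k] R)} (hM : IsNilpotent M)
    (hres : ∀ z : L ⊗[k] R, ∃ c : L, z - c • (1 : L ⊗[k] R) ∈ M) {I I' : Ideal (L ⊗[k] R)}
    (hdim : Module.finrank L ↥(I.restrictScalars L) = Module.finrank L ↥(I'.restrictScalars L)) (hle : ¬ I' ≤ I) :
    ∃ (I₁ I'' : Ideal (L ⊗[k] R)) (a b : L ⊗[k] R) (m : ℕ) (ψ : L ⊗[k] R →ₗ[L] (Fin m → L))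
      (αa αb : L ⊗[k] R →ₗ[L] L),
      (∀ μ ∈ M, μ * a ∈ I₁) ∧ (∀ μ ∈ M, μ * b ∈ I₁) ∧
      m + 1 + Module.finrank L ↥(I.restrictScalars L) = Module.finrank L (L ⊗[k] R) ∧
      Function.Surjective ψ ∧ LinearMap.ker ψ = I₁.restrictScalars L ⊔ Submodule.span L {a, b} ∧
      αa a = 1 ∧ αa b = 0 ∧ αb a = 0 ∧ αb b = 1 ∧ (∀ z ∈ I₁, αa z = 0) ∧ (∀ z ∈ I₁, αb z = 0) ∧
      I.restrictScalars L = I₁.restrictScalars L ⊔ Submodule.span L {b} ∧
      I''.restrictScalars L = I₁.restrictScalars L ⊔ Submodule.span L {a} ∧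
      Module.finrank L ↥(I''.restrictScalars L) = Module.finrank L ↥(I.restrictScalars L) ∧
      I.restrictScalars L ⊓ I'.restrictScalars L < I''.restrictScalars L ⊓ I'.restrictScalars L := by
  obtain ⟨a, haI', haI, haM⟩ := exists_socle hM (K := I ⊓ I') (J := I') (fun h => hle (h.trans inf_le_left))
  have haI₀ : a ∉ I := fun h => haI ⟨h, haI'⟩
  -- a hyperplane of `I`
  let P : Ideal (L ⊗[k] R) := I ⊓ I' ⊔ M * I
  have hPI : ¬ I ≤ P := by
    intro h
    obtain ⟨s, hs⟩ := hM
    have : ∀ i, I ≤ I ⊓ I' ⊔ M ^ i * I := by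
      intro i
      induction i with
      | zero => rw [pow_zero, one_mul]; exact le_sup_right
      | succ i hi =>
        refine hi.trans (sup_le le_sup_left ?_)
        refine (Ideal.mul_mono le_rfl h).trans ?_
        rw [Ideal.mul_sup, pow_succ, mul_assoc]
        exact sup_le (Ideal.mul_le_right.trans le_sup_left) le_sup_right
    have h' := this s
    rw [hs, Ideal.zero_eq_bot, Ideal.bot_mul, sup_bot_eq] at h'
    have hII' : I ≤ I' := h'.trans inf_le_right
    have : I = I' := by
      refine Submodule.restrictScalars_injective L (L ⊗[k] R) (L ⊗[k] R)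
        (Submodule.eq_of_le_of_finrank_le hII' ?_)
      omega
    exact hle this.ge
  obtain ⟨b, hbI, hbP⟩ := SetLike.not_le_iff_exists.1 hPI
  obtain ⟨φ₀, hφb, hφP⟩ := Submodule.exists_dual_map_eq_bot_of_notMem (R := L) (p := P.restrictScalars L) hbP inferInstance
  let φ := (φ₀ b)⁻¹ • φ₀
  have hφ1 : φ b = 1 := by simp [φ, hφb]
  have hφ0 : ∀ z ∈ P, φ z = 0 := fun z hz => by
    have : φ₀ z ∈ (P.restrictScalars L).map φ₀ := Submodule.mem_map_of_mem hz
    rw [hφP, Submodule.mem_bot] at this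
    simp [φ, this]
  obtain ⟨I₁, hI₁⟩ := exists_ideal_of_stable hres (I.restrictScalars L ⊓ LinearMap.ker φ)
    fun μ hμ w hw => ⟨Ideal.mul_mem_left I μ hw.1, hφ0 _ (Ideal.mem_sup_right (Ideal.mul_mem_mul hμ hw.1))⟩
  have hI₁mem : ∀ z, z ∈ I₁ ↔ z ∈ I ∧ φ z = 0 := fun z => by
    rw [← Submodule.restrictScalars_mem L, hI₁]; rfl
  have hKI₁ : I ⊓ I' ≤ I₁ := fun z hz => (hI₁mem z).2 ⟨hz.1, hφ0 z (Ideal.mem_sup_left hz)⟩
  have haM₁ : ∀ μ ∈ M, μ * a ∈ I₁ := fun μ hμ => hKI₁ (haM μ hμ)
  have hbM₁ : ∀ μ ∈ M, μ * b ∈ I₁ := fun μ hμ =>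
    (hI₁mem _).2 ⟨Ideal.mul_mem_left I μ hbI, hφ0 _ (Ideal.mem_sup_right (Ideal.mul_mem_mul hμ hbI))⟩
  have hI : I.restrictScalars L = I₁.restrictScalars L ⊔ Submodule.span L {b} := by
    refine le_antisymm (fun z hz => ?_) (sup_le (fun z hz => ((hI₁mem z).1 hz).1)
      ((Submodule.span_singleton_le_iff_mem _ _).2 hbI))
    refine Submodule.mem_sup.2 ⟨z - φ z • b, ?_, φ z • b, Submodule.smul_mem _ _ (Submodule.mem_span_singleton_self b),
      sub_add_cancel _ _⟩
    exact (hI₁mem _).2 ⟨(I.restrictScalars L).sub_mem hz ((I.restrictScalars L).smul_mem _ hbI), by simp [hφ1]⟩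
  obtain ⟨α₀, hαa, hαI⟩ := Submodule.exists_dual_map_eq_bot_of_notMem (R := L) (p := I.restrictScalars L) haI₀ inferInstance
  let αa := (α₀ a)⁻¹ • α₀
  have haa : αa a = 1 := by simp [αa, hαa]
  have hIa : ∀ z ∈ I, αa z = 0 := fun z hz => by
    have : α₀ z ∈ (I.restrictScalars L).map α₀ := Submodule.mem_map_of_mem hz
    rw [hαI, Submodule.mem_bot] at this
    simp [αa, this]
  let αb := φ - φ a • αa
  -- the sum
  let W := I.restrictScalars L ⊔ Submodule.span L {a}
  have ha0 : a ≠ 0 := fun h => haI₀ (h ▸ I.zero_mem)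
  have hW : Module.finrank L W = Module.finrank L ↥(I.restrictScalars L) + 1 := by
    have h := Submodule.finrank_sup_add_finrank_inf_eq (I.restrictScalars L) (Submodule.span L {a})
    have hbot : I.restrictScalars L ⊓ Submodule.span L {a} = ⊥ :=
      disjoint_iff.1 ((Submodule.disjoint_span_singleton' ha0).2 haI₀)
    rw [hbot, finrank_bot, add_zero, finrank_span_singleton ha0] at h
    exact h
  let eW := (Module.finBasis L ((L ⊗[k] R) ⧸ W)).equivFun
  let ψ := eW.toLinearMap.comp W.mkQ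
  have hm : Module.finrank L ((L ⊗[k] R) ⧸ W) + 1 + Module.finrank L ↥(I.restrictScalars L) =
      Module.finrank L (L ⊗[k] R) := by
    have := Submodule.finrank_quotient_add_finrank W
    omega
  have hker : LinearMap.ker ψ = I₁.restrictScalars L ⊔ Submodule.span L {a, b} := by
    rw [LinearEquiv.ker_comp, Submodule.ker_mkQ]
    show I.restrictScalars L ⊔ _ = _
    rw [hI, sup_assoc, ← Submodule.span_union, Set.union_comm, Set.singleton_union]
  -- the adjacent ideal
  obtain ⟨I'', hI''⟩ := exists_ideal_of_stable hres (I₁.restrictScalars L ⊔ Submodule.span L {a}) fun μ hμ w hw => by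
    obtain ⟨w₁, hw₁, w₂, hw₂, rfl⟩ := Submodule.mem_sup.1 hw
    obtain ⟨c, rfl⟩ := Submodule.mem_span_singleton.1 hw₂
    rw [mul_add, mul_smul_comm]
    exact Submodule.mem_sup_left (add_mem (Ideal.mul_mem_left I₁ μ hw₁)
      ((I₁.restrictScalars L).smul_mem c (haM₁ μ hμ)))
  have hb0 : b ≠ 0 := fun h => hbP (h ▸ P.zero_mem)
  have hfin : Module.finrank L ↥(I''.restrictScalars L) = Module.finrank L ↥(I.restrictScalars L) := by
    have h1 := Submodule.finrank_sup_add_finrank_inf_eq (I₁.restrictScalars L) (Submodule.span L {a})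
    have h2 := Submodule.finrank_sup_add_finrank_inf_eq (I₁.restrictScalars L) (Submodule.span L {b})
    have e1 : I₁.restrictScalars L ⊓ Submodule.span L {a} = ⊥ :=
      disjoint_iff.1 ((Submodule.disjoint_span_singleton' ha0).2 fun h => haI₀ ((hI₁mem a).1 h).1)
    have e2 : I₁.restrictScalars L ⊓ Submodule.span L {b} = ⊥ :=
      disjoint_iff.1 ((Submodule.disjoint_span_singleton' hb0).2 fun h => by
        have := ((hI₁mem b).1 h).2
        rw [hφ1] at this
        exact one_ne_zero this)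
    rw [e1, ← hI'', finrank_bot, finrank_span_singleton ha0] at h1
    rw [e2, ← hI, finrank_bot, finrank_span_singleton hb0] at h2
    omega
  -- the intersection grows
  have hlt : I.restrictScalars L ⊓ I'.restrictScalars L < I''.restrictScalars L ⊓ I'.restrictScalars L := by
    refine lt_of_le_of_ne (le_inf (fun z hz => ?_) inf_le_right) fun h => ?_
    · rw [hI'']; exact Submodule.mem_sup_left (hKI₁ hz)
    · have : a ∈ I''.restrictScalars L ⊓ I'.restrictScalars L :=
        ⟨hI'' ▸ Submodule.mem_sup_right (Submodule.mem_span_singleton_self a), haI'⟩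
      rw [← h] at this
      exact haI₀ this.1
  exact ⟨I₁, I'', a, b, _, ψ, αa, αb, haM₁, hbM₁, hm, eW.surjective.comp (Submodule.mkQ_surjective W), hker, haa,
    hIa b hbI, by simp [αb, haa], by simp [αb, hφ1, hIa b hbI], fun z hz => hIa z ((hI₁mem z).1 hz).1,
    fun z hz => by simp [αb, ((hI₁mem z).1 hz).2, hIa z ((hI₁mem z).1 hz).1], hI, hI'', hfin, hlt⟩

end field

end GrothLib.Hilb26
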