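import Groth.Agent.Lib.Hilb26.Affine
import Groth.Agent.Lib.Hilb26.Line
import Mathlib.RingTheory.TensorProduct.Nontrivial
import Mathlib.Topology.Connected.Basic

/-!
# Connectedness of the punctual Hilbert scheme of a local Artinian algebra
-/

set_option autoImplicit false
set_option linter.style.haveILetI false
set_option backward.isDefEq.respectTransparency false
universe u

noncomputable section

open CategoryTheory CategoryTheory.Limits AlgebraicGeometry TensorProduct

namespace GrothLib.Hilb26

open GrothLib.HilbFun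

variable {k R : Type u} [Field k] [CommRing R] [Algebra k R]

theorem isPullback_id_structure :
    IsPullback (𝟙 (Spec (CommRingCat.of R))) (Spec.map (CommRingCat.ofHom (algebraMap k R)))
      (Spec.map (CommRingCat.ofHom (algebraMap k R))) (𝟙 (Spec (CommRingCat.of k))) :=
  IsPullback.of_horiz_isIso ⟨by simp⟩

/-- The structure morphism. -/
abbrev strMap : Spec (CommRingCat.of R) ⟶ Spec (CommRingCat.of k) := Spec.map (CommRingCat.ofHom (algebraMap k R))

/-- An affine test object over the ground field. -/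
abbrev tK (A : Type u) [CommRing A] [Algebra k A] : Over (Spec (CommRingCat.of k)) :=
  tSpec (𝟙 (Spec (CommRingCat.of k))) (CommAlgCat.of k A)

/-- A point classifies an ideal if it pulls the universal family back to it. -/
def Classifies {n : ℕ} {H : Over (Spec (CommRingCat.of k))} (Z : HilbD.Obj (strMap (k := k) (R := R)) n H)
    {A : Type u} [CommRing A] [Algebra k A] (g : tK (k := k) A ⟶ H) (J : Ideal (A ⊗[k] R)) : Prop :=
  HilbD.pull _ g Z.1 = toSch _ isPullback_id_structure (CommAlgCat.of k A) J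

variable {n : ℕ} {H : Over (Spec (CommRingCat.of k))} {Z : HilbD.Obj (strMap (k := k) (R := R)) n H}
  (hH : HilbD.IsUniversal (strMap (k := k) (R := R)) n H Z)

include hH

theorem exists_classifies {A : Type u} [CommRing A] [Algebra k A] (J : Ideal (A ⊗[k] R))
    (h : Module.Finite A ((A ⊗[k] R) ⧸ J) ∧ Module.Projective A ((A ⊗[k] R) ⧸ J) ∧
      ∀ p, Module.rankAtStalk (R := A) ((A ⊗[k] R) ⧸ J) p = n) :
    ∃ g : tK (k := k) A ⟶ H, Classifies Z g J := by
  obtain ⟨g, hg, -⟩ := hH (tK A) ⟨toSch _ isPullback_id_structure (CommAlgCat.of k A) J,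
    (toSch_mem_iff _ n isPullback_id_structure (CommAlgCat.of k A) J).2 h⟩
  exact ⟨g, hg⟩

theorem classifies_unique {A : Type u} [CommRing A] [Algebra k A] {J : Ideal (A ⊗[k] R)}
    {g g' : tK (k := k) A ⟶ H} (h : Classifies Z g J) (h' : Classifies Z g' J) : g = g' :=
  (hH (tK A) ⟨_, isFinLocFreeOfDeg_pull _ g' Z.2⟩).unique (h.trans h'.symm) rfl

theorem mem_connectedComponent_of_line {L : Type u} [Field L] [Algebra k L]
    {I₁ : Ideal (L ⊗[k] R)} {a b : L ⊗[k] R} {M : Ideal (L ⊗[k] R)}
    (hres : ∀ z : L ⊗[k] R, ∃ c : L, z - c • (1 : L ⊗[k] R) ∈ M)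
    (ha : ∀ μ ∈ M, μ * a ∈ I₁) (hb : ∀ μ ∈ M, μ * b ∈ I₁) {m : ℕ} (hm : m + 1 = n)
    (ψ : L ⊗[k] R →ₗ[L] (Fin m → L)) (hψ : Function.Surjective ψ)
    (hker : LinearMap.ker ψ = I₁.restrictScalars L ⊔ Submodule.span L {a, b})
    (αa αb : L ⊗[k] R →ₗ[L] L) (haa : αa a = 1) (hab : αa b = 0) (hba : αb a = 0) (hbb : αb b = 1)
    (hIa : ∀ z ∈ I₁, αa z = 0) (hIb : ∀ z ∈ I₁, αb z = 0)
    {Jb Ja : Ideal (L ⊗[k] R)} {gb ga : tK (k := k) L ⟶ H} (hgb : Classifies Z gb Jb) (hga : Classifies Z ga Ja)
    (hJb : Jb.restrictScalars L = I₁.restrictScalars L ⊔ Submodule.span L {b})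
    (hJa : Ja.restrictScalars L = I₁.restrictScalars L ⊔ Submodule.span L {a})
    (p : Spec (CommRingCat.of L)) :
    ga.left p ∈ connectedComponent (gb.left p) := by
  obtain ⟨J, hJ, hends⟩ := exists_line hres ha hb hm ψ hψ hker αa αb haa hab hba hbb hIa hIb
  obtain ⟨g, hg⟩ := exists_classifies hH J hJ
  let ev : L → (CommAlgCat.of k (Polynomial L) ⟶ CommAlgCat.of k L) := fun c =>
    CommAlgCat.ofHom ((Polynomial.aeval c).restrictScalars k)
  have key : ∀ (c : L) (J₀ : Ideal (L ⊗[k] R)) (g₀ : tK (k := k) L ⟶ H), Classifies Z g₀ J₀ →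
      J₀.restrictScalars L = I₁.restrictScalars L ⊔ Submodule.span L {(1 - c) • b + c • a} →
        g₀.left p ∈ Set.range g.left := by
    intro c J₀ g₀ h₀ hJ₀
    have e : tHom (𝟙 _) (ev c) ≫ g = g₀ := by
      refine classifies_unique hH ?_ h₀
      show HilbD.pull _ _ _ = _
      rw [← pull_pull, hg]
      exact (pull_toSch _ isPullback_id_structure (ev c) J).trans (congrArg _ (hends c J₀ hJ₀))
    exact ⟨(tHom (𝟙 _) (ev c)).left p, by rw [← e]; rfl⟩
  have h0 := key 0 Jb gb hgb (by simpa using hJb)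
  have h1 := key 1 Ja ga hga (by simpa using hJa)
  haveI : PreconnectedSpace (tK (k := k) (Polynomial L)).left :=
    inferInstanceAs (PreconnectedSpace (PrimeSpectrum (Polynomial L)))
  exact (isPreconnected_range g.left.continuous).subset_connectedComponent h0 h1

theorem mem_connectedComponent_of_classifies [Module.Finite k R] {L : Type u} [Field L] [Algebra k L]
    (hthick : IsThick (k := k) L R) (d : ℕ) :
    ∀ {I I' : Ideal (L ⊗[k] R)} {g g' : tK (k := k) L ⟶ H}, Classifies Z g I → Classifies Z g' I' →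
      Module.finrank L (L ⊗[k] R) - Module.finrank L ↥(I.restrictScalars L ⊓ I'.restrictScalars L) ≤ d →
        ∀ p : Spec (CommRingCat.of L), g'.left p ∈ connectedComponent (g.left p) := by
  obtain ⟨M, hM, hres⟩ := hthick
  haveI : Module.Finite L (L ⊗[k] R) := inferInstance
  have hdim : ∀ {J : Ideal (L ⊗[k] R)} {g : tK (k := k) L ⟶ H}, Classifies Z g J →
      Module.finrank L ↥(J.restrictScalars L) + n = Module.finrank L (L ⊗[k] R) := by
    intro J g hg
    have := isFinLocFreeOfDeg_pull _ g Z.2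
    rw [show HilbD.pull _ g Z.1 = _ from hg, toSch_mem_iff] at this
    have h3 := this.2.2 ⟨⊥, Ideal.isPrime_bot⟩
    rw [Module.rankAtStalk_eq_finrank_of_free] at h3
    rw [← Submodule.finrank_quotient_add_finrank (J.restrictScalars L),
      (Submodule.Quotient.restrictScalarsEquiv L J).finrank_eq, add_comm]
    congr 1
    exact h3.symm
  induction d using Nat.strong_induction_on with
  | _ d ih =>
  intro I I' g g' hg hg' hd p
  by_cases hle : I' ≤ I
  · have : I' = I := by
      refine Submodule.restrictScalars_injective L (L ⊗[k] R) (L ⊗[k] R)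
        (Submodule.eq_of_le_of_finrank_le hle ?_)
      have := hdim hg; have := hdim hg'; omega
    subst this
    rw [classifies_unique hH hg hg']
    exact mem_connectedComponent
  obtain ⟨I₁, I'', a, b, m, ψ, αa, αb, haM₁, hbM₁, hm, hψ, hker, haa, hab, hba, hbb, hIa, hIb, hI, hI'', hfin, hlt⟩ :=
    exists_step hM hres (I := I) (I' := I') (by have := hdim hg; have := hdim hg'; omega) hle
  obtain ⟨g'', hg''⟩ := exists_classifies hH I'' ⟨inferInstance, inferInstance, fun q => by
    rw [Module.rankAtStalk_eq_finrank_of_free]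
    show Module.finrank L ((L ⊗[k] R) ⧸ I'') = n
    have := Submodule.finrank_quotient_add_finrank (I''.restrictScalars L)
    rw [(Submodule.Quotient.restrictScalarsEquiv L I'').finrank_eq] at this
    have := hdim hg
    omega⟩
  have hstep := mem_connectedComponent_of_line hH hres haM₁ hbM₁ (m := m) (by have := hdim hg; omega) ψ hψ hker
    αa αb haa hab hba hbb hIa hIb hg hg'' hI hI'' p
  have hlt' := Submodule.finrank_lt_finrank_of_lt hlt
  have hle' := Submodule.finrank_le (I''.restrictScalars L ⊓ I'.restrictScalars L)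
  have := ih (Module.finrank L (L ⊗[k] R) - Module.finrank L ↥(I''.restrictScalars L ⊓ I'.restrictScalars L))
    (by omega) hg'' hg' le_rfl p
  rwa [connectedComponent_eq hstep]

/-- The punctual Hilbert scheme is connected. -/
theorem preconnectedSpace_of_isLocalRing [IsAlgClosed k] [IsLocalRing R] [Module.Finite k R] :
    PreconnectedSpace H.left := by
  rw [preconnectedSpace_iff_connectedComponent]
  refine fun x => Set.eq_univ_of_forall fun y => ?_
  have hex : ∀ x : H.left, ∃ ρ : CommRingCat.of k ⟶ H.left.residueField x,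
      Spec.map ρ = H.left.fromSpecResidueField x ≫ H.hom := fun x => Spec.map_surjective _
  obtain ⟨ρx, hρx⟩ := hex x
  obtain ⟨ρy, hρy⟩ := hex y
  letI : Algebra k (H.left.residueField x) := ρx.hom.toAlgebra
  letI : Algebra k (H.left.residueField y) := ρy.hom.toAlgebra
  haveI : Nontrivial (H.left.residueField x ⊗[k] H.left.residueField y) :=
    Algebra.TensorProduct.nontrivial_of_algebraMap_injective_of_isDomain k _ _
      (RingHom.injective _) (RingHom.injective _)
  obtain ⟨m, hm⟩ := Ideal.exists_maximal (H.left.residueField x ⊗[k] H.left.residueField y)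
  let L := (H.left.residueField x ⊗[k] H.left.residueField y) ⧸ m
  letI : Field L := Ideal.Quotient.field m
  let ix : H.left.residueField x →ₐ[k] L := (Ideal.Quotient.mkₐ k m).comp Algebra.TensorProduct.includeLeft
  let iy : H.left.residueField y →ₐ[k] L := (Ideal.Quotient.mkₐ k m).comp Algebra.TensorProduct.includeRight
  have hpt : ∀ (z : H.left) (ρ : CommRingCat.of k ⟶ H.left.residueField z)
      (_ : Spec.map ρ = H.left.fromSpecResidueField z ≫ H.hom) (i : H.left.residueField z →+* L)
      (_ : i.comp ρ.hom = algebraMap k L),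
      ∃ (g : tK (k := k) L ⟶ H) (J : Ideal (L ⊗[k] R)), Classifies Z g J ∧ ∀ p, g.left p = z := by
    intro z ρ hρ i hi
    let g : tK (k := k) L ⟶ H := Over.homMk (Spec.map (CommRingCat.ofHom i) ≫ H.left.fromSpecResidueField z) (by
      show (_ ≫ _) ≫ _ = Spec.map (CommRingCat.ofHom (algebraMap k L)) ≫ 𝟙 _
      rw [Category.assoc, ← hρ, ← Spec.map_comp, Category.comp_id, ← hi]
      rfl)
    obtain ⟨J, hJ⟩ := exists_toSch_eq _ isPullback_id_structure (CommAlgCat.of k L) (HilbD.pull _ g Z.1)
    exact ⟨g, J, hJ.symm, fun p => H.left.fromSpecResidueField_apply z _⟩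
  obtain ⟨g, I, hg, hgx⟩ := hpt x ρx hρx ix.toRingHom ix.comp_algebraMap
  obtain ⟨g', I', hg', hgy⟩ := hpt y ρy hρy iy.toRingHom iy.comp_algebraMap
  let p : Spec (CommRingCat.of L) := ⟨⊥, Ideal.isPrime_bot⟩
  have := mem_connectedComponent_of_classifies hH (isThick_of_isLocalRing L) _ hg hg' le_rfl p
  rwa [hgx, hgy] at this

end GrothLib.Hilb26
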