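import Groth.Agent.Lib.Hilb26.FibrePts
import Groth.Agent.Lib.OpenRep26.Basic
import Groth.Agent.Lib.AffUnion.Finset

/-!
# The Hilbert functor of points as a union of the Hilbert functors of affine opens
-/

set_option autoImplicit false
set_option linter.style.haveILetI false
set_option backward.isDefEq.respectTransparency false
universe u

noncomputable section

open CategoryTheory CategoryTheory.Limits AlgebraicGeometry TopologicalSpace

namespace GrothLib.Hilb26

open GrothLib.RepLocal GrothLib.HilbFun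

variable {X V S : Scheme.{u}} (f : X ⟶ S) (j : V ⟶ X) (d : ℕ)

/-- The base change of a morphism over the base. -/
def incO (T : Over S) : PicF.XT (j ≫ f) T ⟶ PicF.XT f T :=
  pullback.map (j ≫ f) T.hom f T.hom j (𝟙 _) (𝟙 S) (Category.comp_id _) (by simp)

theorem isPullback_incO (T : Over S) :
    IsPullback (pullback.fst (j ≫ f) T.hom) (incO f j T) j (pullback.fst f T.hom) := by
  refine IsPullback.of_bot ?_ ?_ (IsPullback.of_hasPullback f T.hom)
  · simpa [incO] using IsPullback.of_hasPullback (j ≫ f) T.hom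
  · simp [incO]

theorem incO_proj (T : Over S) : incO f j T ≫ PicF.XTproj f T = PicF.XTproj (j ≫ f) T := by simp [incO]

theorem isPullback_incO_map {T T' : Over S} (h : T' ⟶ T) :
    IsPullback (incO f j T') (PicF.XTmap (j ≫ f) h) (PicF.XTmap f h) (incO f j T) := by
  refine IsPullback.of_right (h₁₂ := PicF.XTproj f T') (v₁₃ := h.left) (h₂₂ := PicF.XTproj f T) ?_ ?_
    (isPullback_XTmap f h).flip
  · rw [incO_proj, incO_proj]
    exact (isPullback_XTmap (j ≫ f) h).flip
  · refine pullback.hom_ext ?_ ?_ <;> simp [incO, PicF.XTmap]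

theorem range_incO (T : Over S) : Set.range (incO f j T) = pullback.fst f T.hom ⁻¹' Set.range j := by
  rw [← (isPullback_incO f j T).isoPullback_hom_snd]
  refine Eq.trans ?_ (Scheme.Pullback.range_snd j (pullback.fst f T.hom))
  ext y
  refine ⟨fun ⟨x, hx⟩ => ⟨(isPullback_incO f j T).isoPullback.hom x, hx⟩, fun ⟨x, hx⟩ =>
    ⟨(isPullback_incO f j T).isoPullback.inv x, ?_⟩⟩
  rw [← Scheme.Hom.comp_apply, Iso.inv_hom_id_assoc, hx]

variable [IsOpenImmersion j]

instance (T : Over S) : IsOpenImmersion (incO f j T) :=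
  MorphismProperty.of_isPullback (P := @IsOpenImmersion) (isPullback_incO f j T) inferInstance

/-- The points of a closed subscheme of a base change. -/
def pts {T : Over S} (W : (PicF.XT f T).IdealSheafData) : W.subscheme → X :=
  fun z => pullback.fst f T.hom (W.subschemeι z)

/-- A family lies in an open of the total space. -/
def InV {T : Over S} (W : (PicF.XT f T).IdealSheafData) : Prop := ∀ z, pts f W z ∈ Set.range j

/-- The image of a family in the total space. -/
def pushO {T : Over S} (I : (PicF.XT (j ≫ f) T).IdealSheafData) : (PicF.XT f T).IdealSheafData :=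
  (I.subschemeι ≫ incO f j T).ker

variable [IsSeparated f]

theorem isClosedImmersion_comp_incO {T : Over S} (Z : HilbD.Obj (j ≫ f) d T) :
    IsClosedImmersion (Z.1.subschemeι ≫ incO f j T) := by
  let s := Z.1.subschemeι ≫ incO f j T
  have hs : s ≫ PicF.XTproj f T = Z.1.subschemeι ≫ PicF.XTproj (j ≫ f) T := by
    rw [Category.assoc, incO_proj]
  haveI : IsFinite (s ≫ PicF.XTproj f T) := hs ▸ Z.2.1.1
  haveI : IsFinite s := IsFinite.of_comp s (PicF.XTproj f T)
  haveI : IsPreimmersion s := inferInstanceAs (IsPreimmersion (_ ≫ _))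
  exact IsClosedImmersion.of_isPreimmersion s s.isClosedMap.isClosed_range

theorem pushO_mem {T : Over S} (Z : HilbD.Obj (j ≫ f) d T) :
    Mor2.IsFinLocFreeOfDeg d ((pushO f j Z.1).subschemeι ≫ PicF.XTproj f T) := by
  haveI := isClosedImmersion_comp_incO f j d Z
  obtain ⟨e, he⟩ := exists_iso_ker (Z.1.subschemeι ≫ incO f j T)
  rw [pushO, ← isFinLocFreeOfDeg_iso_comp e, reassoc_of% he, incO_proj]
  exact Z.2

theorem inV_pushO {T : Over S} (Z : HilbD.Obj (j ≫ f) d T) : InV f j (pushO f j Z.1) := by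
  haveI := isClosedImmersion_comp_incO f j d Z
  obtain ⟨e, he⟩ := exists_iso_ker (Z.1.subschemeι ≫ incO f j T)
  intro z
  refine (range_incO f j T).le ⟨Z.1.subschemeι (e.inv z), ?_⟩
  show incO f j T (Z.1.subschemeι (e.inv z)) = (Z.1.subschemeι ≫ incO f j T).ker.subschemeι z
  rw [← Scheme.Hom.comp_apply Z.1.subschemeι, ← Scheme.Hom.comp_apply e.inv]
  exact congrArg (fun m => (m : _ ⟶ PicF.XT f T) z) ((Iso.inv_comp_eq e).2 he.symm)

theorem pull_pushO {T T' : Over S} (h : T' ⟶ T) (Z : HilbD.Obj (j ≫ f) d T) :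
    HilbD.pull f h (pushO f j Z.1) = pushO f j (HilbD.pull (j ≫ f) h Z.1) := by
  haveI := isClosedImmersion_comp_incO f j d Z
  rw [pull_eq_comap, pull_eq_comap, pushO, pushO]
  refine comap_ker _ (q := (Z.1.comapIso (PicF.XTmap (j ≫ f) h)).hom ≫ pullback.snd _ _) ?_
  refine IsPullback.paste_horiz ?_ (isPullback_incO_map f j h)
  exact IsPullback.of_iso_pullback ⟨by rw [Category.assoc, ← pullback.condition,
      Scheme.IdealSheafData.comapIso_hom_fst_assoc]⟩ (Z.1.comapIso _)
    (Z.1.comapIso_hom_fst _) rfl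

theorem comap_pushO {T : Over S} (Z : HilbD.Obj (j ≫ f) d T) : (pushO f j Z.1).comap (incO f j T) = Z.1 := by
  haveI := isClosedImmersion_comp_incO f j d Z
  rw [pushO]
  refine (comap_ker _ (q := 𝟙 _) (j' := Z.1.subschemeι) ?_).trans Z.1.ker_subschemeι
  exact ⟨⟨by simp⟩, ⟨PullbackCone.IsLimit.mk _ (fun s => s.snd)
    (fun s => by rw [← cancel_mono (incO f j T), Category.assoc, ← s.condition])
    (fun s => Category.comp_id _) (fun s m _ h2 => by simpa using h2)⟩⟩

theorem exists_pushO_eq {T : Over S} (W : HilbD.Obj f d T) (h : InV f j W.1) :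
    ∃ Z : HilbD.Obj (j ≫ f) d T, pushO f j Z.1 = W.1 := by
  have hr : Set.range W.1.subschemeι ⊆ Set.range (incO f j T) := by
    rw [range_incO]
    rintro _ ⟨z, rfl⟩
    exact h z
  let l := IsOpenImmersion.lift (incO f j T) W.1.subschemeι hr
  have hl : l ≫ incO f j T = W.1.subschemeι := IsOpenImmersion.lift_fac _ _ _
  haveI : IsSeparated (incO f j T) := inferInstance
  haveI : IsClosedImmersion (l ≫ incO f j T) := by rw [hl]; infer_instance
  haveI : IsClosedImmersion l := IsClosedImmersion.of_comp l (incO f j T)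
  obtain ⟨e, he⟩ := exists_iso_ker l
  refine ⟨⟨l.ker, ?_⟩, ?_⟩
  · rw [← isFinLocFreeOfDeg_iso_comp e, reassoc_of% he, ← incO_proj f j T, reassoc_of% hl]
    exact W.2
  · show (l.ker.subschemeι ≫ incO f j T).ker = W.1
    rw [← Scheme.Hom.ker_comp_of_isIso e.hom, reassoc_of% he, hl, Scheme.IdealSheafData.ker_subschemeι]

omit [IsSeparated f] [IsOpenImmersion j] in
theorem pts_pull {T T' : Over S} (h : T' ⟶ T) (W : (PicF.XT f T).IdealSheafData)
    (z : (W.comap (PicF.XTmap f h)).subscheme) :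
    pts f W (((W.comapIso (PicF.XTmap f h)).hom ≫ pullback.snd _ _) z) = pts f (W.comap (PicF.XTmap f h)) z := by
  show pullback.fst f T.hom (W.subschemeι _) = pullback.fst f T'.hom _
  rw [← Scheme.Hom.comp_apply _ W.subschemeι, Category.assoc, ← pullback.condition,
    Scheme.IdealSheafData.comapIso_hom_fst_assoc, Scheme.Hom.comp_apply, ← Scheme.Hom.comp_apply _ (pullback.fst f T.hom),
    show PicF.XTmap f h ≫ pullback.fst f T.hom = pullback.fst f T'.hom by simp [PicF.XTmap]]

/-- The points of the base over which a family lies in an open. -/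
def locV {T : Over S} (W : HilbD.Obj f d T) : T.left.Opens :=
  ⟨((W.1.subschemeι ≫ PicF.XTproj f T) '' (pts f W.1 ⁻¹' (Set.range j)ᶜ))ᶜ, by
    haveI := W.2.1.1
    refine ((W.1.subschemeι ≫ PicF.XTproj f T).isClosedMap _ ?_).isOpen_compl
    have : IsClosed ((Set.range j)ᶜ) := j.isOpenEmbedding.isOpen_range.isClosed_compl
    exact this.preimage ((pullback.fst f T.hom).continuous.comp W.1.subschemeι.continuous)⟩

omit [IsSeparated f] in
theorem mem_locV_iff {T T' : Over S} (W : HilbD.Obj f d T) (g : T' ⟶ T) :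
    Set.range g.left ⊆ (locV f j d W : Set T.left) ↔ InV f j (HilbD.pull f g W.1) := by
  rw [pull_eq_comap]
  have H := isPullback_subscheme_pull f g W.1
  refine ⟨fun h z' => ?_, fun h => ?_⟩
  · by_contra hz
    refine h ⟨((W.1.comap (PicF.XTmap f g)).subschemeι ≫ PicF.XTproj f T') z', rfl⟩
      ⟨((W.1.comapIso (PicF.XTmap f g)).hom ≫ pullback.snd _ _) z', ?_, ?_⟩
    · show pts f W.1 _ ∈ (Set.range j)ᶜ
      rw [pts_pull]
      exact hz
    · exact congrArg (fun m => (m : _ ⟶ T.left) z') H.w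
  · rintro _ ⟨t', rfl⟩ ⟨z, hz, hzt⟩
    obtain ⟨y, hy₁, hy₂⟩ := Scheme.Pullback.exists_preimage_pullback z t' hzt
    have := h (H.isoPullback.inv y)
    rw [← pts_pull] at this
    have e : ((W.1.comapIso (PicF.XTmap f g)).hom ≫ pullback.snd _ _) (H.isoPullback.inv y) = z := by
      rw [← Scheme.Hom.comp_apply, IsPullback.isoPullback_inv_fst, hy₁]
    rw [e] at this
    exact hz this

/-- The Hilbert functor of points over an open of the base. -/
def hilbOn (U : S.Opens) : Psh.{u} S where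
  obj T := {_x : HilbD.Obj f d T // Inside T U}
  map g x := ⟨(hilb f d).map g x.1, x.2.of_hom g⟩
  map_id T x := Subtype.ext ((hilb f d).map_id T x.1)
  map_comp g h x := Subtype.ext ((hilb f d).map_comp g h x.1)

omit [IsSeparated f] in
theorem isSheaf_hilbOn (U : S.Opens) : IsSheaf (hilbOn f d U) := by
  intro T κ W hW x hx
  obtain ⟨y, hy, hyu⟩ := isSheaf_hilb f d T W hW (fun i => (x i).1) fun i k => congrArg Subtype.val (hx i k)
  have hT : Inside T U := by
    have hr : Set.range T.hom ⊆ Set.range U.ι := by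
      rintro _ ⟨p, rfl⟩
      obtain ⟨i, hi⟩ := Opens.mem_iSup.1 (hW.iSup_eq_top.ge (Opens.mem_top p))
      obtain ⟨q, hq⟩ := (x i).2
      refine ⟨q ⟨p, hi⟩, ?_⟩
      rw [← Scheme.Hom.comp_apply, hq]
      rfl
    exact ⟨IsOpenImmersion.lift U.ι T.hom hr, IsOpenImmersion.lift_fac _ _ _⟩
  exact ⟨⟨y, hT⟩, fun i => Subtype.ext (hy i),
    fun z hz => Subtype.ext (hyu z.1 fun i => congrArg Subtype.val (hz i))⟩

/-- The affine opens of the total space over an affine open of the base. -/
abbrev Piece (U : S.Opens) : Type u := {W : X.affineOpens // W.1 ≤ f ⁻¹ᵁ U}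

theorem exists_piece_rep (U : S.affineOpens) (W : Piece f U.1) :
    ∃ (N : Over S) (n : HilbD.Obj (W.1.1.ι ≫ f) d N), RepOn (hilb (W.1.1.ι ≫ f) d) U.1 N n := by
  letI : Algebra Γ(S, U) Γ(X, W.1.1) := (f.appLE U.1 W.1.1 W.2).hom.toAlgebra
  have hW' : (W.1.1.ι ≫ f) ⁻¹ᵁ U.1 = ⊤ := top_le_iff.1 fun p _ => W.2 p.2
  have hX : IsPullback (W.1.2.isoSpec.inv) (Spec.map (CommRingCat.ofHom (algebraMap Γ(S, U) Γ(X, W.1.1))))
      (W.1.1.ι ≫ f) U.2.fromSpec := by
    have w : W.1.2.isoSpec.inv ≫ W.1.1.ι ≫ f = Spec.map (f.appLE U.1 W.1.1 W.2) ≫ U.2.fromSpec := by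
      rw [IsAffineOpen.SpecMap_appLE_fromSpec f U.2 W.1.2 W.2, ← Category.assoc, IsAffineOpen.isoSpec_inv_ι]
    refine ⟨⟨w⟩, ⟨PullbackCone.IsLimit.mk _ (fun s => s.fst ≫ W.1.2.isoSpec.hom)
      (fun s => by simp) (fun s => ?_) (fun s m h1 _ => by simp [← h1])⟩⟩
    rw [← cancel_mono U.2.fromSpec, Category.assoc, Category.assoc, ← s.condition]
    show s.fst ≫ W.1.2.isoSpec.hom ≫ Spec.map (f.appLE U.1 W.1.1 W.2) ≫ U.2.fromSpec = _
    rw [← w, Iso.hom_inv_id_assoc]
  exact exists_repOn_affine (W.1.1.ι ≫ f) d (R := Γ(S, U)) (A₀ := Γ(X, W.1.1)) hX U.2.range_fromSpec.symm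

/-- Over an affine open of the base, the Hilbert functor is representable if finite sets in fibres lie in affine opens. -/
theorem exists_repOn_of_affine_nbhd
    (h : ∀ (s : S) (x : Fin d → X), (∀ i, f.base (x i) = s) → ∃ U : X.Opens, IsAffineOpen U ∧ ∀ i, x i ∈ U)
    (U : S.affineOpens) : ∃ (N : Over S) (n : HilbD.Obj f d N), RepOn (hilb f d) U.1 N n := by
  choose N n hN using exists_piece_rep f d U
  let m : ∀ i : Piece f U.1, (hilbOn f d U.1).obj (N i) := fun i =>
    ⟨⟨pushO f i.1.1.ι (n i).1, pushO_mem f i.1.1.ι d (n i)⟩, (hN i).1⟩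
  let 𝔄 : OpenRep26.Chart (hilbOn f d U.1) :=
    { idx := Piece f U.1
      N := N
      n := m
      inj := fun i T a b hab => by
        have hT : Inside T U.1 := (hN i).1.of_hom a
        have e : HilbD.pull f a (pushO f i.1.1.ι (n i).1) = HilbD.pull f b (pushO f i.1.1.ι (n i).1) :=
          congrArg (fun z : (hilbOn f d U.1).obj T => z.1.1) hab
        rw [pull_pushO, pull_pushO] at e
        refine ((hN i).2 T hT ((hilb (i.1.1.ι ≫ f) d).map b (n i))).unique (Subtype.ext ?_) rfl
        have e' := congrArg (fun I : Scheme.IdealSheafData _ => I.comap (incO f i.1.1.ι T)) e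
        exact (comap_pushO f i.1.1.ι d ((hilb (i.1.1.ι ≫ f) d).map a (n i))).symm.trans
          (e'.trans (comap_pushO f i.1.1.ι d ((hilb (i.1.1.ι ≫ f) d).map b (n i))))
      loc := fun T x i => locV f i.1.1.ι d x.1
      mem_loc := fun T x i T' g => by
        refine (mem_locV_iff f i.1.1.ι d x.1 g).trans ⟨fun hV => ?_, fun ⟨a, ha⟩ => ?_⟩
        · obtain ⟨Z, hZ⟩ := exists_pushO_eq f i.1.1.ι d ⟨HilbD.pull f g x.1.1, isFinLocFreeOfDeg_pull f g x.1.2⟩ hV
          obtain ⟨a, ha, -⟩ := (hN i).2 T' (x.2.of_hom g) Z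
          refine ⟨a, Subtype.ext (Subtype.ext ?_)⟩
          show HilbD.pull f a (pushO f i.1.1.ι (n i).1) = HilbD.pull f g x.1.1
          rw [pull_pushO, ← hilb_map_val, ha, hZ]
        · have ha' : HilbD.pull f a (pushO f i.1.1.ι (n i).1) = HilbD.pull f g x.1.1 :=
            congrArg (fun z : (hilbOn f d U.1).obj T' => z.1.1) ha
          rw [← ha', pull_pushO]
          exact inV_pushO f i.1.1.ι d ((hilb (i.1.1.ι ≫ f) d).map a (n i))
      cover := fun T x p => by
        haveI := x.1.2.1.1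
        obtain ⟨k, e, hk, he⟩ := exists_fibre_points x.1.2 p
        have hpU : T.hom p ∈ U.1 := by
          obtain ⟨q, hq⟩ := x.2
          rw [← hq]
          exact (q p).2
        have hf : ∀ z : x.1.1.subscheme, (x.1.1.subschemeι ≫ PicF.XTproj f T) z = p →
            f (pts f x.1.1 z) = T.hom p := fun z hz => by
          show f (pullback.fst f T.hom (x.1.1.subschemeι z)) = _
          rw [← Scheme.Hom.comp_apply (pullback.fst f T.hom), pullback.condition, Scheme.Hom.comp_apply]
          exact congrArg T.hom hz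
        suffices hex : ∃ W : Piece f U.1, ∀ z : x.1.1.subscheme,
            (x.1.1.subschemeι ≫ PicF.XTproj f T) z = p → pts f x.1.1 z ∈ W.1.1 by
          obtain ⟨W, hW⟩ := hex
          refine ⟨W, fun ⟨z, hz, hzp⟩ => hz ?_⟩
          exact ⟨⟨_, hW z hzp⟩, rfl⟩
        by_cases hne : ∃ z : x.1.1.subscheme, (x.1.1.subschemeι ≫ PicF.XTproj f T) z = p
        · obtain ⟨z₀, hz₀⟩ := hne
          classical
          let x' : Fin d → X := fun a =>
            if ha : a.1 < k then
              (if (x.1.1.subschemeι ≫ PicF.XTproj f T) (e ⟨a.1, ha⟩) = p then pts f x.1.1 (e ⟨a.1, ha⟩)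
                else pts f x.1.1 z₀)
            else pts f x.1.1 z₀
          have hx' : ∀ a, f (x' a) = T.hom p := fun a => by
            simp only [x']
            split_ifs with h1 h2
            · exact hf _ h2
            · exact hf _ hz₀
            · exact hf _ hz₀
          obtain ⟨W₀, hW₀, hxW₀⟩ := h (T.hom p) x' hx'
          obtain ⟨r, hr, hxr⟩ := AffUnion.exists_basicOpen_finset hW₀ (Finset.univ.image x')
            (fun t ht => by obtain ⟨a, -, rfl⟩ := Finset.mem_image.1 ht; exact hxW₀ a) (f ⁻¹ᵁ U.1)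
            (fun t ht => by
              obtain ⟨a, -, rfl⟩ := Finset.mem_image.1 ht
              show f (x' a) ∈ U.1
              rw [hx']
              exact hpU)
          refine ⟨⟨⟨X.basicOpen r, hW₀.basicOpen r⟩, hr⟩, fun z hz => ?_⟩
          obtain ⟨a, ha⟩ := he hz
          have : x' ⟨a.1, a.2.trans_le hk⟩ = pts f x.1.1 z := by
            simp only [x']
            rw [dif_pos a.2, Fin.eta, ha, if_pos hz]
          rw [← this]
          exact hxr _ (Finset.mem_image_of_mem x' (Finset.mem_univ _))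
        · exact ⟨⟨⟨⊥, isAffineOpen_bot X⟩, bot_le⟩, fun z hz => absurd ⟨z, hz⟩ hne⟩ }
  obtain ⟨M, μ, hM⟩ := 𝔄.exists_representing (isSheaf_hilbOn f d U.1)
  refine ⟨M, μ.1, μ.2, fun T hT z => ?_⟩
  obtain ⟨a, ha, hau⟩ := hM T ⟨z, hT⟩
  exact ⟨a, congrArg Subtype.val ha, fun b hb => hau b (Subtype.ext hb)⟩

end GrothLib.Hilb26
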