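import Groth.Agent.Lib.Hilb26.Affine
import Mathlib.AlgebraicGeometry.Fiber
import Mathlib.RingTheory.Artinian.Module

/-!
# Points of the fibres of a finite locally free morphism
-/

set_option autoImplicit false
set_option linter.style.haveILetI false
set_option backward.isDefEq.respectTransparency false
universe u

noncomputable section

open CategoryTheory CategoryTheory.Limits AlgebraicGeometry

namespace GrothLib.Hilb26

/-- A finite algebra of dimension `d` over a field has at most `d` primes. -/
theorem card_primeSpectrum_le (k D : Type u) [Field k] [CommRing D] [Algebra k D] [Module.Finite k D] :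
    ∃ (n : ℕ) (e : Fin n → PrimeSpectrum D), n ≤ Module.finrank k D ∧ Function.Surjective e := by
  classical
  haveI : IsArtinianRing D := IsArtinianRing.of_finite k D
  haveI : Fintype (MaximalSpectrum D) := Fintype.ofFinite _
  let π : D →ₗ[k] ∀ m : MaximalSpectrum D, D ⧸ m.asIdeal :=
    LinearMap.pi fun m => (Ideal.Quotient.mkₐ k m.asIdeal).toLinearMap
  have hπ : Function.Surjective π := fun x => by
    obtain ⟨r, hr⟩ := Ideal.pi_quotient_surjective (I := fun m : MaximalSpectrum D => m.asIdeal)
      (fun a b hab => Ideal.isCoprime_iff_sup_eq.2 (a.isMaximal.coprime_of_ne b.isMaximal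
        fun h => hab (MaximalSpectrum.ext h))) x
    exact ⟨r, funext hr⟩
  have hle : Fintype.card (MaximalSpectrum D) ≤ Module.finrank k D := by
    refine le_trans ?_ (LinearMap.finrank_le_finrank_of_surjective hπ)
    rw [Module.finrank_pi_fintype, Fintype.card, Finset.card_eq_sum_ones]
    refine Finset.sum_le_sum fun m _ => ?_
    haveI : Nontrivial (D ⧸ m.asIdeal) := Ideal.Quotient.nontrivial_iff.2 m.isMaximal.ne_top
    exact Module.finrank_pos
  let e₀ := (Fintype.equivFin (MaximalSpectrum D)).symm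
  refine ⟨_, fun i => ⟨(e₀ i).asIdeal, (e₀ i).isMaximal.isPrime⟩, hle, fun p => ?_⟩
  haveI : p.asIdeal.IsMaximal := IsArtinianRing.isMaximal_of_isPrime p.asIdeal
  exact ⟨e₀.symm ⟨p.asIdeal, inferInstance⟩, PrimeSpectrum.ext (by simp)⟩

/-- A fibre of a finite locally free morphism of degree `d` has at most `d` points. -/
theorem exists_fibre_points {W T : Scheme.{u}} {φ : W ⟶ T} {d : ℕ} (h : Mor2.IsFinLocFreeOfDeg d φ) (t : T) :
    ∃ (n : ℕ) (e : Fin n → W), n ≤ d ∧ φ ⁻¹' {t} ⊆ Set.range e := by
  haveI := h.1.1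
  haveI := h.1.2.1
  haveI := h.1.2.2
  let π := pullback.snd φ (T.fromSpecResidueField t)
  have H : IsPullback (pullback.fst φ (T.fromSpecResidueField t)) π φ (T.fromSpecResidueField t) :=
    IsPullback.of_hasPullback _ _
  haveI : IsFinite π := MorphismProperty.of_isPullback H h.1.1
  have hπ : Mor2.IsFinLocFreeOfDeg d π :=
    ⟨⟨MorphismProperty.of_isPullback H h.1.1, MorphismProperty.of_isPullback H h.1.2.1,
      MorphismProperty.of_isPullback H h.1.2.2⟩,
      fun y => by rw [Scheme.Hom.finrank_of_isPullback _ _ _ _ H]; exact h.2 _⟩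
  haveI : IsAffine (pullback φ (T.fromSpecResidueField t)) := isAffine_of_isAffineHom π
  let D := Γ(pullback φ (T.fromSpecResidueField t), ⊤)
  let e := (pullback φ (T.fromSpecResidueField t)).isoSpec
  obtain ⟨ρ, hρ⟩ : ∃ ρ, Spec.map ρ = e.inv ≫ π := Spec.map_surjective _
  letI : Algebra (T.residueField t) D := ρ.hom.toAlgebra
  have hD : Mor2.IsFinLocFreeOfDeg d (Spec.map (CommRingCat.ofHom (algebraMap (T.residueField t) D))) := by
    show Mor2.IsFinLocFreeOfDeg d (Spec.map ρ)
    rw [hρ]
    exact (isFinLocFreeOfDeg_iso_comp e.symm π d).2 hπ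
  obtain ⟨h1, -, h3⟩ := (isFinLocFreeOfDeg_spec_iff (T.residueField t) D d).1 hD
  obtain ⟨n, g, hn, hg⟩ := card_primeSpectrum_le (T.residueField t) D
  refine ⟨n, fun i => pullback.fst φ (T.fromSpecResidueField t) (e.inv (g i)), ?_, fun w hw => ?_⟩
  · have := h3 ⟨⊥, Ideal.isPrime_bot⟩
    rw [Module.rankAtStalk_eq_finrank_of_free] at this
    exact hn.trans this.le
  · obtain ⟨z, hz⟩ := (Scheme.Hom.range_fiberι φ t).ge hw
    obtain ⟨i, hi⟩ := hg (e.hom z)
    refine ⟨i, ?_⟩
    show pullback.fst φ (T.fromSpecResidueField t) (e.inv (g i)) = w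
    rw [hi, ← Scheme.Hom.comp_apply e.hom e.inv, Iso.hom_inv_id]
    exact hz

end GrothLib.Hilb26
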