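import Groth.Agent.Lib.Hilb26.Functor
import Groth.Agent.Lib.IdealDescFpqc.Main
import Groth.Agent.Lib.EtSite.FpqcDescent

/-!
# fpqc descent for families of points
-/

set_option autoImplicit false
set_option linter.style.haveILetI false
set_option backward.isDefEq.respectTransparency false
universe u

noncomputable section

open CategoryTheory CategoryTheory.Limits AlgebraicGeometry

namespace GrothLib.Hilb26

open GrothLib.HilbFun GrothLib.EtSite

variable {X S : Scheme.{u}} (f : X ⟶ S) (d : ℕ)

theorem exists_fpqc_glue (T : Over S) {T' : Scheme.{u}} (g : T' ⟶ T.left) [QuasiCompact g] [Flat g] [Surjective g]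
    (Z' : HilbD.Obj f d (HilbD.coverOver T g))
    (hZ' : HilbD.pull f (HilbD.overlapFst T g) Z'.1 = HilbD.pull f (HilbD.overlapSnd T g) Z'.1) :
    ∃! I : (PicF.XT f T).IdealSheafData, Mor2.IsFinLocFreeOfDeg d (I.subschemeι ≫ PicF.XTproj f T) ∧
      HilbD.pull f (HilbD.coverHom T g) I = Z'.1 := by
  let p : PicF.XT f (HilbD.coverOver T g) ⟶ PicF.XT f T := PicF.XTmap f (HilbD.coverHom T g)
  have hpb : IsPullback p (PicF.XTproj f (HilbD.coverOver T g)) (PicF.XTproj f T) g :=
    isPullback_XTmap f (HilbD.coverHom T g)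
  haveI : Flat p := MorphismProperty.of_isPullback hpb.flip inferInstance
  haveI : Surjective p := MorphismProperty.of_isPullback hpb.flip inferInstance
  haveI : QuasiCompact p := MorphismProperty.of_isPullback hpb.flip inferInstance
  let Z : HilbD.Obj f d (HilbD.coverOver T g) := Z'
  let proj' := PicF.XTproj f (HilbD.coverOver T g)
  have hr : (pullback.fst p p ≫ proj') ≫ g = (pullback.snd p p ≫ proj') ≫ g := by
    rw [Category.assoc, Category.assoc, ← hpb.w, pullback.condition_assoc]
  let r : pullback p p ⟶ (HilbD.overlapOver T g).left := pullback.lift _ _ hr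
  let w : pullback p p ⟶ PicF.XT f (HilbD.overlapOver T g) :=
    (isPullback_XTmap f (HilbD.overlapFst T g)).lift (pullback.fst p p) r
      (pullback.lift_fst (f := g) (g := g) _ _ hr).symm
  have hw₁ : w ≫ PicF.XTmap f (HilbD.overlapFst T g) = pullback.fst p p := IsPullback.lift_fst _ _ _ _
  have hw₂ : w ≫ PicF.XTmap f (HilbD.overlapSnd T g) = pullback.snd p p := by
    refine hpb.hom_ext ?_ ?_
    · have e : HilbD.overlapSnd T g ≫ HilbD.coverHom T g = HilbD.overlapFst T g ≫ HilbD.coverHom T g := by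
        ext1
        exact pullback.condition.symm
      rw [← pullback.condition, ← hw₁, Category.assoc, Category.assoc, XTmap_XTmap, XTmap_XTmap, e]
    · rw [Category.assoc, (isPullback_XTmap f (HilbD.overlapSnd T g)).w, IsPullback.lift_snd_assoc]
      exact pullback.lift_snd _ _ _
  have hc : Z'.1.comap (pullback.fst p p) = Z'.1.comap (pullback.snd p p) := by
    rw [← hw₁, ← hw₂, ← pull_comap, ← pull_comap, hZ']
  have hqc : QuasiCompactCover (PreZeroHypercover.mk PUnit.{u + 1} (fun _ => PicF.XT f (HilbD.coverOver T g))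
      (fun _ => p) : PreZeroHypercover (PicF.XT f T)) := ⟨fun {U} hU => by
    refine IsCompactOpenCovered.iff_of_unique.mpr ⟨p ⁻¹ᵁ U, p.isCompact_preimage hU.isCompact, ?_⟩
    exact Set.image_preimage_eq _ p.surjective⟩
  obtain ⟨I, hI, hIu⟩ := IdealDescFpqc.existsUnique (fun _ : PUnit.{u + 1} => p) (fun _ => Z'.1) hqc
    (fun _ => inferInstance) (fun _ _ => hc)
  have hI' : HilbD.pull f (HilbD.coverHom T g) I = Z'.1 := (pull_eq_comap f _ I).trans (hI ⟨⟩)
  refine ⟨I, ⟨?_, hI'⟩, fun I' hI'' => hIu I' fun _ => (pull_eq_comap f _ I').symm.trans hI''.2⟩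
  have H := isPullback_subscheme_pull f (HilbD.coverHom T g) I
  have hZ := Z'.2
  rw [← hI', pull_eq_comap] at hZ
  have hg : fpqcCov g := ⟨⟨inferInstance, inferInstance⟩, inferInstance⟩
  have := HasRingHomProperty.descendsAlong_flat (P := @Flat) GrothLib.AlgSp.codescendsAlong_flat
  haveI h1 : IsFinite (I.subschemeι ≫ PicF.XTproj f T) :=
    MorphismProperty.of_isPullback_of_descendsAlong (P := @IsFinite) (Q := fpqcCov) H.flip hg hZ.1.1
  haveI h2 : Flat (I.subschemeι ≫ PicF.XTproj f T) :=
    MorphismProperty.of_isPullback_of_descendsAlong (P := @Flat) (Q := fpqcCov) H.flip hg hZ.1.2.1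
  have h3 : LocallyOfFinitePresentation (I.subschemeι ≫ PicF.XTproj f T) :=
    MorphismProperty.of_isPullback_of_descendsAlong (P := @LocallyOfFinitePresentation) (Q := fpqcCov) H.flip hg hZ.1.2.2
  refine ⟨⟨h1, h2, h3⟩, fun y => ?_⟩
  obtain ⟨y', rfl⟩ := g.surjective y
  exact (Scheme.Hom.finrank_of_isPullback _ _ _ _ H y').symm.trans (hZ.2 y')

end GrothLib.Hilb26
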