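import Groth.Agent.Lib.Hilb26.Glue
import Groth.Agent.Lib.RelDiv.HilbFun
import Groth.Agent.Lib.RepLocal.Sheaf
import Groth.Agent.Lib.Grass26.Glue

/-!
# The Hilbert functor of points as a Zariski sheaf, and representability from affine points
-/

set_option autoImplicit false
set_option linter.style.haveILetI false
set_option backward.isDefEq.respectTransparency false
universe u

noncomputable section

open CategoryTheory CategoryTheory.Limits AlgebraicGeometry TopologicalSpace

namespace GrothLib.Hilb26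

open GrothLib.RepLocal GrothLib.HilbFun

variable {X S : Scheme.{u}} (f : X ⟶ S) (d : ℕ)

/-- The Hilbert functor of points as a presheaf. -/
def hilb : Psh.{u} S where
  obj T := HilbD.Obj f d T
  map g Z := ⟨HilbD.pull f g Z.1, isFinLocFreeOfDeg_pull f g Z.2⟩
  map_id T Z := Subtype.ext (pull_id f Z.1)
  map_comp g h Z := Subtype.ext (pull_pull f g h Z.1).symm

theorem hilb_map_val {T T' : Over S} (g : T' ⟶ T) (Z : (hilb f d).obj T) :
    ((hilb f d).map g Z).1 = HilbD.pull f g Z.1 := rfl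

instance isOpenImmersion_XTmap {T T' : Over S} (g : T' ⟶ T) [IsOpenImmersion g.left] :
    IsOpenImmersion (PicF.XTmap f g) :=
  MorphismProperty.of_isPullback (P := @IsOpenImmersion) (isPullback_XTmap f g).flip inferInstance

instance (T : Over S) (V : T.left.Opens) : IsOpenImmersion (opnι T V).left := inferInstanceAs (IsOpenImmersion V.ι)

theorem mem_range_XTmap (T : Over S) (V : T.left.Opens) (y : PicF.XT f T) (hy : PicF.XTproj f T y ∈ V) :
    y ∈ Set.range (PicF.XTmap f (opnι T V)) := by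
  let U : (PicF.XT f T).Opens := PicF.XTproj f T ⁻¹ᵁ V
  let l : U.toScheme ⟶ PicF.XT f (opn T V) := (isPullback_XTmap f (opnι T V)).lift U.ι (PicF.XTproj f T ∣_ V)
    (morphismRestrict_ι _ _).symm
  refine ⟨l ⟨y, hy⟩, ?_⟩
  rw [← Scheme.Hom.comp_apply, IsPullback.lift_fst]
  rfl

theorem exists_cover_XT {T : Over S} {κ : Type u} {V : κ → T.left.Opens} (hV : IsOpenCover V) (y : PicF.XT f T) :
    ∃ i, y ∈ Set.range (PicF.XTmap f (opnι T (V i))) := by
  obtain ⟨i, hi⟩ := Opens.mem_iSup.1 (hV.iSup_eq_top.ge (Opens.mem_top (PicF.XTproj f T y)))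
  exact ⟨i, mem_range_XTmap f T (V i) y hi⟩

theorem pull_comap {T T' : Over S} (g : T' ⟶ T) (I : (PicF.XT f T).IdealSheafData) {W : Scheme.{u}}
    (a : W ⟶ PicF.XT f T') : (HilbD.pull f g I).comap a = I.comap (a ≫ PicF.XTmap f g) := by
  rw [pull_eq_comap, Scheme.IdealSheafData.comap_comp]

theorem mem_of_local {T : Over S} {κ : Type u} {V : κ → T.left.Opens} (hV : IsOpenCover V)
    (J : (PicF.XT f T).IdealSheafData)
    (h : ∀ i, Mor2.IsFinLocFreeOfDeg d
      ((HilbD.pull f (opnι T (V i)) J).subschemeι ≫ PicF.XTproj f (opn T (V i)))) :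
    Mor2.IsFinLocFreeOfDeg d (J.subschemeι ≫ PicF.XTproj f T) := by
  set φ := J.subschemeι ≫ PicF.XTproj f T
  have H := fun i => isPullback_subscheme_pull f (opnι T (V i)) J
  have h' : ∀ i, Mor2.IsFinLocFreeOfDeg d
      ((J.comap (PicF.XTmap f (opnι T (V i)))).subschemeι ≫ PicF.XTproj f (opn T (V i))) := fun i => by
    rw [← pull_eq_comap]; exact h i
  have key : ∀ (Q : MorphismProperty Scheme.{u}) [IsZariskiLocalAtTarget Q],
      (∀ i, Q ((J.comap (PicF.XTmap f (opnι T (V i)))).subschemeι ≫ PicF.XTproj f (opn T (V i)))) → Q φ := by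
    intro Q _ hQ
    refine (IsZariskiLocalAtTarget.iff_of_iSup_eq_top V hV.iSup_eq_top).2 fun i => ?_
    have e := (H i).isoIsPullback_hom_snd _ _ (isPullback_morphismRestrict φ (V i)).flip
    have := hQ i
    rw [← e, MorphismProperty.cancel_left_of_respectsIso Q] at this
    exact this
  have hfin : IsFinite φ := key @IsFinite fun i => (h' i).1.1
  have hflat : Flat φ := key @Flat fun i => (h' i).1.2.1
  refine ⟨⟨hfin, hflat, key @LocallyOfFinitePresentation fun i => (h' i).1.2.2⟩, fun y => ?_⟩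
  obtain ⟨i, hi⟩ := Opens.mem_iSup.1 (hV.iSup_eq_top.ge (Opens.mem_top y))
  have := Scheme.Hom.finrank_of_isPullback _ _ _ _ (H i) (⟨y, hi⟩ : V i)
  exact this.symm.trans ((h' i).2 _)

theorem XTmap_XTmap {T T' T'' : Over S} (g : T' ⟶ T) (g' : T'' ⟶ T') :
    PicF.XTmap f g' ≫ PicF.XTmap f g = PicF.XTmap f (g' ≫ g) := by
  apply pullback.hom_ext <;> simp [PicF.XTmap]

theorem XTmap_proj {T T' : Over S} (g : T' ⟶ T) :
    PicF.XTmap f g ≫ PicF.XTproj f T = PicF.XTproj f T' ≫ g.left := (isPullback_XTmap f g).w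

theorem exists_lift_inf (T : Over S) (V V' : T.left.Opens) {W : Scheme.{u}} (a : W ⟶ PicF.XT f (opn T V))
    (b : W ⟶ PicF.XT f (opn T V')) (hab : a ≫ PicF.XTmap f (opnι T V) = b ≫ PicF.XTmap f (opnι T V')) :
    ∃ c : W ⟶ PicF.XT f (opn T (V ⊓ V')), c ≫ PicF.XTmap f (opnMap T inf_le_left) = a ∧
      c ≫ PicF.XTmap f (opnMap T inf_le_right) = b := by
  let pa : W ⟶ T.left := (a ≫ PicF.XTproj f (opn T V)) ≫ (opnι T V).left
  have hpa : pa = (b ≫ PicF.XTproj f (opn T V')) ≫ (opnι T V').left := by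
    rw [Category.assoc, ← XTmap_proj, ← Category.assoc, ← hab, Category.assoc, XTmap_proj, ← Category.assoc]
  have hr : Set.range pa ⊆ Set.range (opnι T (V ⊓ V')).left := by
    show Set.range pa ⊆ Set.range (V ⊓ V').ι
    rw [Scheme.Opens.range_ι]
    rintro _ ⟨w, rfl⟩
    refine ⟨((a ≫ PicF.XTproj f (opn T V)) w).2, ?_⟩
    rw [hpa]
    exact ((b ≫ PicF.XTproj f (opn T V')) w).2
  have hw : (a ≫ PicF.XTmap f (opnι T V)) ≫ PicF.XTproj f T =
      IsOpenImmersion.lift (opnι T (V ⊓ V')).left pa hr ≫ (opnι T (V ⊓ V')).left := by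
    rw [IsOpenImmersion.lift_fac, Category.assoc, XTmap_proj, ← Category.assoc]
  refine ⟨(isPullback_XTmap f (opnι T (V ⊓ V'))).lift _ _ hw, ?_, ?_⟩
  · rw [← cancel_mono (PicF.XTmap f (opnι T V)), Category.assoc, XTmap_XTmap, opnMap_opnι]
    exact IsPullback.lift_fst _ _ _ _
  · rw [← cancel_mono (PicF.XTmap f (opnι T V')), Category.assoc, XTmap_XTmap, opnMap_opnι]
    exact (IsPullback.lift_fst _ _ _ _).trans hab

theorem isSheaf_hilb : IsSheaf (hilb f d) := by
  intro T κ V hV x hx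
  let j := fun i => PicF.XTmap f (opnι T (V i))
  obtain ⟨J, hJ⟩ := exists_glue j (exists_cover_XT f hV) (fun i => (x i).1) fun i k W a b hab => by
    obtain ⟨c, rfl, rfl⟩ := exists_lift_inf f T (V i) (V k) a b hab
    rw [← pull_comap, ← pull_comap]
    have e := congrArg Subtype.val (hx i k)
    rw [hilb_map_val, hilb_map_val] at e
    rw [e]
  have hpull : ∀ i, HilbD.pull f (opnι T (V i)) J = (x i).1 := fun i => (pull_eq_comap f _ J).trans (hJ i)
  refine ⟨⟨J, mem_of_local f d hV J fun i => by rw [hpull]; exact (x i).2⟩,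
    fun i => Subtype.ext (hpull i), fun Z hZ => Subtype.ext (eq_of_cover j (exists_cover_XT f hV) fun i => ?_)⟩
  rw [hJ i, ← pull_eq_comap]
  exact congrArg Subtype.val (hZ i)

variable {R : Type u} [CommRing R] (u₀ : Spec (CommRingCat.of R) ⟶ S)

/-- An affine test object over an affine piece of the base. -/
abbrev tSpec (A : CommAlgCat.{u} R) : Over S :=
  Over.mk (Spec.map (CommRingCat.ofHom (algebraMap R A)) ≫ u₀)

/-- The morphism of test objects attached to a map of algebras. -/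
def tHom {A B : CommAlgCat.{u} R} (φ : A ⟶ B) : tSpec u₀ B ⟶ tSpec u₀ A :=
  Over.homMk (Grass26.wPt φ).left (by
    show (Grass26.wPt φ).left ≫ Spec.map (CommRingCat.ofHom (algebraMap R A)) ≫ u₀ = _
    rw [← Category.assoc]
    exact congrArg (· ≫ u₀) (Over.w (Grass26.wPt φ)))

/-- An affine point as a morphism over the base. -/
def ptN {H : Over (Spec (CommRingCat.of R))} {A : CommAlgCat.{u} R} (g : Grass26.Pt H A) :
    tSpec u₀ A ⟶ Over.mk (H.hom ≫ u₀) :=
  Over.homMk g.left (by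
    show g.left ≫ H.hom ≫ u₀ = _
    rw [← Category.assoc]
    exact congrArg (· ≫ u₀) (Over.w g))

theorem tHom_ptN {H : Over (Spec (CommRingCat.of R))} {A B : CommAlgCat.{u} R} (φ : A ⟶ B) (g : Grass26.Pt H A) :
    tHom u₀ φ ≫ ptN u₀ g = ptN u₀ (Grass26.res φ g) := rfl

variable [IsOpenImmersion u₀]

theorem exists_pt_eq {H : Over (Spec (CommRingCat.of R))} {A : CommAlgCat.{u} R}
    (a : tSpec u₀ A ⟶ Over.mk (H.hom ≫ u₀)) : ∃ g : Grass26.Pt H A, ptN u₀ g = a := by
  refine ⟨Over.homMk a.left ?_, rfl⟩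
  have := Over.w a
  exact (cancel_mono u₀).1 ((Category.assoc _ _ _).trans this)

theorem exists_tHom_eq {A B : CommAlgCat.{u} R} (a : tSpec u₀ B ⟶ tSpec u₀ A) : ∃ φ : A ⟶ B, tHom u₀ φ = a := by
  obtain ⟨ψ, hψ⟩ : ∃ ψ, Spec.map ψ = a.left := Spec.map_surjective _
  have h : Spec.map ψ ≫ Spec.map (CommRingCat.ofHom (algebraMap R A)) = Spec.map (CommRingCat.ofHom (algebraMap R B)) :=
    (cancel_mono u₀).1 (by rw [hψ, Category.assoc]; exact Over.w a)
  rw [← Spec.map_comp] at h
  refine ⟨CommAlgCat.ofHom { ψ.hom with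
    commutes' := fun r => RingHom.congr_fun (congrArg CommRingCat.Hom.hom (Spec.map_injective h)) r }, ?_⟩
  ext1
  exact hψ

theorem exists_iso_tSpec (T : Over S) [IsAffine T.left] {U : S.Opens} (hU : (U : Set S) ⊆ Set.range u₀)
    (hT : Inside T U) : ∃ A : CommAlgCat.{u} R, Nonempty (tSpec u₀ A ≅ T) := by
  obtain ⟨q, hq⟩ := hT
  have hr : Set.range (T.left.isoSpec.inv ≫ T.hom) ⊆ Set.range u₀ := by
    rintro _ ⟨p, rfl⟩
    rw [← hq]
    exact hU (q (T.left.isoSpec.inv p)).2
  obtain ⟨ρ, hρ⟩ : ∃ ρ, Spec.map ρ = IsOpenImmersion.lift u₀ _ hr := Spec.map_surjective _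
  letI : Algebra R Γ(T.left, ⊤) := ρ.hom.toAlgebra
  refine ⟨CommAlgCat.of R Γ(T.left, ⊤), ⟨Over.isoMk T.left.isoSpec.symm ?_⟩⟩
  show T.left.isoSpec.inv ≫ T.hom = Spec.map ρ ≫ u₀
  rw [hρ, IsOpenImmersion.lift_fac]

/-- Representability over an affine open of the base from natural bijections on affine points. -/
theorem repOn_of_points {U : S.Opens} (hU : (U : Set S) = Set.range u₀) (H : Over (Spec (CommRingCat.of R)))
    (e : ∀ A : CommAlgCat.{u} R, Grass26.Pt H A ≃ HilbD.Obj f d (tSpec u₀ A))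
    (he : ∀ (A B : CommAlgCat.{u} R) (φ : A ⟶ B) (g : Grass26.Pt H A),
      (e B (Grass26.res φ g)).1 = HilbD.pull f (tHom u₀ φ) (e A g).1) :
    ∃ (N : Over S) (n : HilbD.Obj f d N), RepOn (hilb f d) U N n := by
  let N : Over S := Over.mk (H.hom ≫ u₀)
  have hN : Inside N U := by
    have hr : Set.range N.hom ⊆ Set.range U.ι := by
      rw [Scheme.Opens.range_ι, hU]
      rintro _ ⟨x, rfl⟩
      exact ⟨H.hom x, rfl⟩
    exact ⟨IsOpenImmersion.lift U.ι N.hom hr, IsOpenImmersion.lift_fac _ _ _⟩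
  have hP := isSheaf_hilb f d
  -- the sections over the affine opens
  let V : N.left.affineOpens → N.left.Opens := fun V => V.1
  have hV : IsOpenCover V := IsOpenCover.mk (iSup_affineOpens_eq_top N.left)
  haveI : ∀ v : N.left.affineOpens, IsAffine (opn N (V v)).left := fun v => v.2
  choose A hA using fun v : N.left.affineOpens =>
    exists_iso_tSpec u₀ (opn N (V v)) hU.le (hN.of_hom (opnι N (V v)))
  let κ := fun v => (hA v).some
  choose g hg using fun v => exists_pt_eq u₀ ((κ v).hom ≫ opnι N (V v))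
  let x : ∀ v, (hilb f d).obj (opn N (V v)) := fun v => (hilb f d).map (κ v).inv (e (A v) (g v))
  have key : ∀ (v : N.left.affineOpens) {B : CommAlgCat.{u} R} (a : tSpec u₀ B ⟶ opn N (V v)) (g' : Grass26.Pt H B),
      a ≫ opnι N (V v) = ptN u₀ g' → (hilb f d).map a (x v) = e B g' := by
    intro v B a g' ha
    obtain ⟨φ, hφ⟩ := exists_tHom_eq u₀ (a ≫ (κ v).inv)
    have hg' : Grass26.res φ (g v) = g' := by
      have : ptN u₀ (Grass26.res φ (g v)) = ptN u₀ g' := by
        rw [← tHom_ptN, hφ, hg, Category.assoc, Iso.inv_hom_id_assoc, ha]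
      have e := congrArg (fun t => t.left) this
      ext1
      exact e
    show (hilb f d).map a ((hilb f d).map (κ v).inv _) = _
    rw [← (hilb f d).map_comp, ← hφ, ← hg']
    exact Subtype.ext (he _ _ φ (g v)).symm
  have affext : ∀ (T : Over S), Inside T U → ∀ y y' : (hilb f d).obj T,
      (∀ (B : CommAlgCat.{u} R) (a : tSpec u₀ B ⟶ T) (W : T.left.affineOpens) (l : tSpec u₀ B ⟶ opn T W.1),
        l ≫ opnι T W.1 = a → (hilb f d).map a y = (hilb f d).map a y') → y = y' := by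
    intro T hT y y' h
    refine hP.ext (fun W : T.left.affineOpens => W.1) (IsOpenCover.mk (iSup_affineOpens_eq_top T.left)) fun W => ?_
    haveI : IsAffine (opn T W.1).left := W.2
    obtain ⟨B, ⟨k⟩⟩ := exists_iso_tSpec u₀ (opn T W.1) hU.le (hT.of_hom (opnι T W.1))
    have h1 := congrArg ((hilb f d).map k.inv) (h B (k.hom ≫ opnι T W.1) W k.hom rfl)
    rwa [← (hilb f d).map_comp, ← (hilb f d).map_comp, Iso.inv_hom_id_assoc] at h1
  obtain ⟨n, hn, -⟩ := hP N V hV x fun v w => by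
    refine affext _ ((hN.of_hom (opnι N (V v))).of_hom (opnMap N inf_le_left)) _ _ fun B a _ _ _ => ?_
    obtain ⟨g', hg'⟩ := exists_pt_eq u₀ (a ≫ opnι N (V v ⊓ V w))
    rw [← (hilb f d).map_comp (opnMap N inf_le_left) a (x v), ← (hilb f d).map_comp (opnMap N inf_le_right) a (x w),
      key v (a ≫ opnMap N inf_le_left) g' (by rw [Category.assoc, opnMap_opnι, hg']),
      key w (a ≫ opnMap N inf_le_right) g' (by rw [Category.assoc, opnMap_opnι, hg'])]
  have hpt : ∀ (B : CommAlgCat.{u} R) (g' : Grass26.Pt H B), (hilb f d).map (ptN u₀ g') n = e B g' := by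
    intro B g'
    let T : Over S := tSpec u₀ B
    let κ' := {W : T.left.affineOpens // ∃ v, W.1 ≤ g'.left ⁻¹ᵁ V v}
    refine hP.ext (T := T) (fun W : κ' => W.1.1) (IsOpenCover.mk (top_le_iff.1 fun p _ => ?_)) fun W => ?_
    · obtain ⟨v, hv⟩ := Opens.mem_iSup.1 (hV.iSup_eq_top.ge (Opens.mem_top (g'.left p)))
      obtain ⟨_, ⟨W, hW, rfl⟩, hpW, hle⟩ := T.left.isBasis_affineOpens.exists_subset_of_mem_open
        (show p ∈ g'.left ⁻¹ᵁ V v from hv) (g'.left ⁻¹ᵁ V v).isOpen
      exact Opens.mem_iSup.2 ⟨⟨⟨W, hW⟩, v, hle⟩, hpW⟩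
    · obtain ⟨⟨W, hW⟩, v, hv⟩ := W
      have hTU : Inside (opn T W) U := (hN.of_hom (ptN u₀ g')).of_hom (opnι T W)
      haveI : IsAffine (opn T W).left := hW
      obtain ⟨C, ⟨k⟩⟩ := exists_iso_tSpec u₀ (opn T W) hU.le hTU
      obtain ⟨φ, hφ⟩ := exists_tHom_eq u₀ (k.hom ≫ opnι T W)
      have hr : Set.range (opnι T W ≫ ptN u₀ g').left ⊆ Set.range (opnι N (V v)).left := by
        show Set.range _ ⊆ Set.range (V v).ι
        rw [Scheme.Opens.range_ι]
        rintro _ ⟨p, rfl⟩
        exact hv p.2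
      let l : opn T W ⟶ opn N (V v) := Over.homMk (IsOpenImmersion.lift _ _ hr) (by
        show _ ≫ (opnι N (V v)).left ≫ N.hom = _
        rw [IsOpenImmersion.lift_fac_assoc]
        exact Over.w (opnι T W ≫ ptN u₀ g'))
      have hl : l ≫ opnι N (V v) = opnι T W ≫ ptN u₀ g' := by
        ext1
        exact IsOpenImmersion.lift_fac _ _ _
      have h0 : (hilb f d).map k.hom ((hilb f d).map (opnι T W) ((hilb f d).map (ptN u₀ g') n)) =
          (hilb f d).map k.hom ((hilb f d).map (opnι T W) (e B g')) := by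
        rw [← (hilb f d).map_comp (ptN u₀ g'), ← hl, (hilb f d).map_comp, hn, ← (hilb f d).map_comp l,
          key v (k.hom ≫ l) (Grass26.res φ g') (by rw [Category.assoc, hl, ← tHom_ptN, hφ, Category.assoc]),
          ← (hilb f d).map_comp (opnι T W), ← hφ]
        exact Subtype.ext (he _ _ φ g')
      have h1 := congrArg ((hilb f d).map k.inv) h0
      rwa [← (hilb f d).map_comp k.hom, ← (hilb f d).map_comp k.hom, Iso.inv_hom_id,
        (hilb f d).map_id, (hilb f d).map_id] at h1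
  refine ⟨N, n, repOn_of_affine hP U N n hN fun T hTa hT y => ?_⟩
  haveI := hTa
  obtain ⟨B, ⟨k⟩⟩ := exists_iso_tSpec u₀ T hU.le hT
  refine ⟨k.inv ≫ ptN u₀ ((e B).symm ((hilb f d).map k.hom y)), ?_, fun a ha => ?_⟩
  · show (hilb f d).map _ n = y
    rw [(hilb f d).map_comp, hpt, Equiv.apply_symm_apply, ← (hilb f d).map_comp, Iso.inv_hom_id, (hilb f d).map_id]
  · obtain ⟨g', hg'⟩ := exists_pt_eq u₀ (k.hom ≫ a)
    have : g' = (e B).symm ((hilb f d).map k.hom y) := by
      rw [Equiv.eq_symm_apply, ← hpt, hg', (hilb f d).map_comp]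
      exact congrArg _ ha
    rw [← this, hg', Iso.inv_hom_id_assoc]

/-- Representability of the Hilbert functor of points from representability over the affine opens of the base. -/
theorem representable_of_repOn (h : ∀ U : S.affineOpens, ∃ (N : Over S) (n : HilbD.Obj f d N), RepOn (hilb f d) U.1 N n) :
    HilbD.Representable f d := by
  obtain ⟨M, m, hm⟩ := exists_representing (hilb f d) (isSheaf_hilb f d).isLocal h
  refine ⟨M, m, fun T Z => ?_⟩
  obtain ⟨a, ha, hau⟩ := hm T Z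
  exact ⟨a, congrArg Subtype.val ha, fun b hb => hau b (Subtype.ext hb)⟩

end GrothLib.Hilb26
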