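import Groth.Agent.Lib.Hilb26.Closed

/-!
# The Hilbert functor of points of a closed subscheme
-/

set_option autoImplicit false
set_option linter.style.haveILetI false
set_option backward.isDefEq.respectTransparency false
universe u

noncomputable section

open CategoryTheory CategoryTheory.Limits AlgebraicGeometry

namespace GrothLib.Hilb26

open GrothLib.HilbFun

variable {X Y S : Scheme.{u}} (i : X ⟶ Y) [IsClosedImmersion i] (g : Y ⟶ S) (d : ℕ)

/-- The base change of a morphism over the base. -/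
def incT (T : Over S) : PicF.XT (i ≫ g) T ⟶ PicF.XT g T :=
  pullback.map (i ≫ g) T.hom g T.hom i (𝟙 _) (𝟙 S) (Category.comp_id _) (by simp)

omit [IsClosedImmersion i] in
theorem isPullback_incT (T : Over S) :
    IsPullback (pullback.fst (i ≫ g) T.hom) (incT i g T) i (pullback.fst g T.hom) := by
  refine IsPullback.of_bot ?_ ?_ (IsPullback.of_hasPullback g T.hom)
  · simpa [incT] using IsPullback.of_hasPullback (i ≫ g) T.hom
  · simp [incT]

instance (T : Over S) : IsClosedImmersion (incT i g T) :=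
  MorphismProperty.of_isPullback (P := @IsClosedImmersion) (isPullback_incT i g T) inferInstance

omit [IsClosedImmersion i] in
theorem incT_proj (T : Over S) : incT i g T ≫ PicF.XTproj g T = PicF.XTproj (i ≫ g) T := by simp [incT]

omit [IsClosedImmersion i] in
theorem isPullback_incT_map {T T' : Over S} (h : T' ⟶ T) :
    IsPullback (incT i g T') (PicF.XTmap (i ≫ g) h) (PicF.XTmap g h) (incT i g T) := by
  refine IsPullback.of_right (h₁₂ := PicF.XTproj g T') (v₁₃ := h.left) (h₂₂ := PicF.XTproj g T) ?_ ?_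
    (isPullback_XTmap g h).flip
  · rw [incT_proj, incT_proj]
    exact (isPullback_XTmap (i ≫ g) h).flip
  · refine pullback.hom_ext ?_ ?_ <;> simp [incT, PicF.XTmap]

theorem push_def (T : Over S) (I : (PicF.XT (i ≫ g) T).IdealSheafData) :
    HilbD.push i g T I = (I.subschemeι ≫ incT i g T).ker := rfl

theorem pull_push {T T' : Over S} (h : T' ⟶ T) (I : (PicF.XT (i ≫ g) T).IdealSheafData) :
    HilbD.pull g h (HilbD.push i g T I) = HilbD.push i g T' (HilbD.pull (i ≫ g) h I) := by
  rw [pull_eq_comap, pull_eq_comap, push_def, push_def]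
  haveI : IsClosedImmersion (I.subschemeι ≫ incT i g T) := inferInstance
  refine comap_ker _ (q := (I.comapIso (PicF.XTmap (i ≫ g) h)).hom ≫ pullback.snd _ _) ?_
  refine IsPullback.paste_horiz ?_ (isPullback_incT_map i g h)
  exact IsPullback.of_iso_pullback ⟨by rw [Category.assoc, ← pullback.condition,
      Scheme.IdealSheafData.comapIso_hom_fst_assoc]⟩ (I.comapIso _)
    (I.comapIso_hom_fst _) rfl

theorem comap_push (T : Over S) (I : (PicF.XT (i ≫ g) T).IdealSheafData) :
    (HilbD.push i g T I).comap (incT i g T) = I := by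
  rw [push_def]
  haveI : IsClosedImmersion (I.subschemeι ≫ incT i g T) := inferInstance
  refine (comap_ker _ (q := 𝟙 _) (j' := I.subschemeι) ?_).trans I.ker_subschemeι
  exact ⟨⟨by simp⟩, ⟨PullbackCone.IsLimit.mk _ (fun s => s.snd)
    (fun s => by rw [← cancel_mono (incT i g T), Category.assoc, ← s.condition])
    (fun s => Category.comp_id _) (fun s m _ h2 => by simpa using h2)⟩⟩

theorem push_mem {T : Over S} (Z : HilbD.Obj (i ≫ g) d T) :
    Mor2.IsFinLocFreeOfDeg d ((HilbD.push i g T Z.1).subschemeι ≫ PicF.XTproj g T) := by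
  rw [push_def]
  haveI : IsClosedImmersion (Z.1.subschemeι ≫ incT i g T) := inferInstance
  obtain ⟨e, he⟩ := exists_iso_ker (Z.1.subschemeι ≫ incT i g T)
  rw [← isFinLocFreeOfDeg_iso_comp e, reassoc_of% he, incT_proj]
  exact Z.2

theorem exists_push_eq {T : Over S} (W : HilbD.Obj g d T) (h : (incT i g T).ker ≤ W.1) :
    ∃ Z : HilbD.Obj (i ≫ g) d T, HilbD.push i g T Z.1 = W.1 := by
  let l := IsClosedImmersion.lift (incT i g T) W.1.subschemeι (by rwa [Scheme.IdealSheafData.ker_subschemeι])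
  have hl : l ≫ incT i g T = W.1.subschemeι := IsClosedImmersion.lift_fac _ _ _
  haveI : IsClosedImmersion (l ≫ incT i g T) := by rw [hl]; infer_instance
  haveI : IsClosedImmersion l := IsClosedImmersion.of_comp l (incT i g T)
  obtain ⟨e, he⟩ := exists_iso_ker l
  refine ⟨⟨l.ker, ?_⟩, ?_⟩
  · rw [← isFinLocFreeOfDeg_iso_comp e, reassoc_of% he, ← incT_proj i g T, reassoc_of% hl]
    exact W.2
  · show (l.ker.subschemeι ≫ incT i g T).ker = W.1
    rw [← Scheme.Hom.ker_comp_of_isIso e.hom, reassoc_of% he, hl, Scheme.IdealSheafData.ker_subschemeι]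

theorem ker_incT_le_push (T : Over S) (I : (PicF.XT (i ≫ g) T).IdealSheafData) :
    (incT i g T).ker ≤ HilbD.push i g T I := Scheme.Hom.le_ker_comp _ _

theorem pull_ker_incT {T T' : Over S} (h : T' ⟶ T) :
    HilbD.pull g h (incT i g T).ker = (incT i g T').ker := by
  rw [pull_eq_comap]
  exact comap_ker _ (isPullback_incT_map i g h)

/-- The universal family of a closed subscheme lives on a closed subscheme. -/
theorem exists_universal_comp {H : Over S} {Z : HilbD.Obj g d H} (hZ : HilbD.IsUniversal g d H Z) :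
    ∃ (H' : Over S) (Z' : HilbD.Obj (i ≫ g) d H') (m : H' ⟶ H),
      HilbD.IsUniversal (i ≫ g) d H' Z' ∧ IsClosedImmersion m.left ∧ HilbD.pull g m Z.1 = HilbD.push i g H' Z'.1 := by
  obtain ⟨K, hK⟩ := exists_le_locus g d (incT i g H).ker Z
  simp only [pull_ker_incT] at hK
  let H' : Over S := Over.mk (K.subschemeι ≫ H.hom)
  let c : H' ⟶ H := Over.homMk K.subschemeι rfl
  obtain ⟨Z', hZ'⟩ := exists_push_eq i g d (⟨HilbD.pull g c Z.1, isFinLocFreeOfDeg_pull g c Z.2⟩ : HilbD.Obj g d H')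
    ((hK c).2 K.ker_subschemeι.ge)
  change HilbD.push i g H' Z'.1 = HilbD.pull g c Z.1 at hZ'
  refine ⟨H', Z', c, fun T W => ?_, inferInstanceAs (IsClosedImmersion K.subschemeι), hZ'.symm⟩
  obtain ⟨a, ha, hau⟩ := hZ T ⟨HilbD.push i g T W.1, push_mem i g d W⟩
  have hle : K ≤ a.left.ker := (hK a).1 (by rw [ha]; exact ker_incT_le_push i g T W.1)
  let a' : T ⟶ H' := Over.homMk (IsClosedImmersion.lift K.subschemeι a.left
      (by rwa [Scheme.IdealSheafData.ker_subschemeι])) (by
    show _ ≫ K.subschemeι ≫ H.hom = _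
    rw [IsClosedImmersion.lift_fac_assoc]
    exact Over.w a)
  have hac : a' ≫ c = a := by
    ext1
    exact IsClosedImmersion.lift_fac _ _ _
  have key : ∀ b : T ⟶ H', HilbD.pull (i ≫ g) b Z'.1 = W.1 → b ≫ c = a := fun b hb => hau _ (by
    show HilbD.pull g (b ≫ c) Z.1 = _
    rw [← pull_pull, ← hZ', pull_push, hb])
  refine ⟨a', ?_, fun b hb => ?_⟩
  · show HilbD.pull (i ≫ g) a' Z'.1 = W.1
    rw [← comap_push i g T W.1, ← comap_push i g T (HilbD.pull (i ≫ g) a' Z'.1), ← pull_push, hZ', pull_pull, hac, ha]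
  · ext1
    refine (cancel_mono K.subschemeι).1 ?_
    exact congrArg CategoryTheory.Over.Hom.left ((key b hb).trans hac.symm)

theorem isClosedImmersion_of_push {H : Over S} {Z : HilbD.Obj g d H} (hZ : HilbD.IsUniversal g d H Z)
    {H₁ : Over S} {Z₁ : HilbD.Obj (i ≫ g) d H₁} (h₁ : HilbD.IsUniversal (i ≫ g) d H₁ Z₁) (m : H₁ ⟶ H)
    (hm : HilbD.pull g m Z.1 = HilbD.push i g H₁ Z₁.1) : IsClosedImmersion m.left := by
  obtain ⟨H', Z', c, hZ', hc, hcp⟩ := exists_universal_comp i g d hZ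
  obtain ⟨a, ha, -⟩ := hZ' H₁ Z₁
  obtain ⟨b, hb, -⟩ := h₁ H' Z'
  have hab : a ≫ b = 𝟙 _ := (h₁ H₁ Z₁).unique
    (show HilbD.pull _ (a ≫ b) Z₁.1 = Z₁.1 by rw [← pull_pull, hb, ha]) (pull_id _ _)
  have hba : b ≫ a = 𝟙 _ := (hZ' H' Z').unique
    (show HilbD.pull _ (b ≫ a) Z'.1 = Z'.1 by rw [← pull_pull, ha, hb]) (pull_id _ _)
  let e : H₁ ≅ H' := ⟨a, b, hab, hba⟩
  haveI : IsIso a.left := inferInstanceAs (IsIso ((Over.forget S).mapIso e).hom)
  have hm' : m = a ≫ c := (hZ H₁ ⟨_, push_mem i g d Z₁⟩).unique hm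
    (show HilbD.pull g (a ≫ c) Z.1 = _ by rw [← pull_pull, hcp, pull_push, ha])
  rw [hm']
  haveI := hc
  exact inferInstanceAs (IsClosedImmersion (a.left ≫ c.left))

end GrothLib.Hilb26
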